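import Cfsg.Agent.Char.ExtThm
import Cfsg.Agent.H76.AlperinDade2
import Cfsg.Agent.H69.CoprimeIndex
import Cfsg.Agent.H76.Congr
import Cfsg.Agent.Char.ModP
import Cfsg.Agent.H79.Basic
import Cfsg.Agent.Glaub.Count
import Cfsg.Prelude.Def_DegreeGraph

/-!
# Relative character degrees (helper78)

`N` normal in `G`, contained in the derived subgroup.
* `dvd_of_inv`: `l` an invariant linear character of `N` of `r`-power order, `l ≠ 1`; `χ` over `θ` of degree prime
  to `r`, `ξ` over `θ l`; then `r` divides the degree of `ξ`.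
* `dvd_of_dvd_order`: `χ` over the invariant linear character `t`; every prime divisor of the order of `t` divides
  the degree of `χ`.
* `eq_one_of_mul_eq`: `S` a character of `N` of degree prime to `r`, `ν` linear of `r`-power order, `ν S = S`
  implies `ν = 1`.
-/

set_option autoImplicit false
set_option linter.unusedSectionVars false

namespace Cfsg.Agent.RelDeg

open Cfsg Cfsg.Agent.CharBase Cfsg.Agent.Char
open scoped ComplexConjugate

universe u

variable {G : Type u} [Group G]

/-- the group of linear characters. -/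
def Lin (N : Subgroup G) := N →* ℂˣ

noncomputable instance (N : Subgroup G) : CommGroup (Lin N) := inferInstanceAs (CommGroup (N →* ℂˣ))

instance (N : Subgroup G) : FunLike (Lin N) N ℂˣ := inferInstanceAs (FunLike (N →* ℂˣ) N ℂˣ)

instance (N : Subgroup G) : MonoidHomClass (Lin N) N ℂˣ := inferInstanceAs (MonoidHomClass (N →* ℂˣ) N ℂˣ)

@[ext] theorem Lin.ext {N : Subgroup G} {l m : Lin N} (h : ∀ n, l n = m n) : l = m := DFunLike.ext _ _ h

@[simp] theorem pow_app {N : Subgroup G} (l : Lin N) (k : ℕ) (n : N) : (l ^ k) n = (l n) ^ k := rfl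

@[simp] theorem mul_app {N : Subgroup G} (l m : Lin N) (n : N) : (l * m) n = l n * m n := rfl

@[simp] theorem one_app {N : Subgroup G} (n : N) : (1 : Lin N) n = 1 := rfl

@[simp] theorem inv_app {N : Subgroup G} (l : Lin N) (n : N) : (l⁻¹) n = (l n)⁻¹ := rfl

/-- a linear character as a function. -/
def lc {N : Subgroup G} (l : Lin N) : N → ℂ := fun n => (l n : ℂ)

section

variable {N : Subgroup G}

theorem lc_eq (l : Lin N) : lc l = ((Units.coeHom ℂ).comp (l : N →* ℂˣ) : N →* ℂ) := rfl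

theorem lc_char (l : Lin N) : IsCharacter N (lc l) := isCharacter_of_hom ((Units.coeHom ℂ).comp l)

theorem lc_irr (l : Lin N) : IsIrrCharacter N (lc l) := isIrrCharacter_of_hom ((Units.coeHom ℂ).comp l)

@[simp] theorem lc_one_apply (l : Lin N) : lc l 1 = 1 := by simp [lc]

theorem lc_mul (l m : Lin N) : lc (l * m) = lc l * lc m := by
  funext n; simp [lc]

theorem lc_one : lc (1 : Lin N) = fun _ => 1 := by
  funext n; simp [lc]

theorem lc_pow (l : Lin N) (k : ℕ) : lc (l ^ k) = (lc l) ^ k := by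
  funext n; simp [lc, pow_app]

theorem lc_injective : Function.Injective (lc : Lin N → N → ℂ) := by
  intro l m h
  ext n
  exact congrFun h n

theorem lc_ne_zero (l : Lin N) (n : N) : lc l n ≠ 0 := (l n).ne_zero

theorem mul_lc_injective (l : Lin N) : Function.Injective fun f : N → ℂ => f * lc l := by
  intro f g h
  funext n
  exact mul_right_cancel₀ (lc_ne_zero l n) (congrFun h n)

theorem irr_mul_lc [Finite G] {θ : N → ℂ} (hθ : IsIrrCharacter N θ) (l : Lin N) :
    IsIrrCharacter N (θ * lc l) := by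
  rw [mul_comm]
  exact Glaub.isIrr_mul_linear hθ (lc_char l) (lc_one_apply l)

end

section

variable (N : Subgroup G) [hN : N.Normal]

/-- the conjugate of a linear character. -/
def cl (g : G) (l : Lin N) : Lin N := MonoidHom.comp (l : N →* ℂˣ) (cjEquiv N g).toMonoidHom

@[simp] theorem cl_app (g : G) (l : Lin N) (n : N) : cl N g l n = l (cjEquiv N g n) := rfl

theorem cj_lc (g : G) (l : Lin N) : cj N g (lc l) = lc (cl N g l) := rfl

theorem cl_mul (g : G) (l m : Lin N) : cl N g (l * m) = cl N g l * cl N g m := rfl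

theorem cl_pow (g : G) (l : Lin N) (k : ℕ) : cl N g (l ^ k) = (cl N g l) ^ k := by
  ext n; simp

theorem cl_one (g : G) : cl N g 1 = 1 := rfl

theorem inv_iff (g : G) (l : Lin N) : cj N g (lc l) = lc l ↔ cl N g l = l := by
  rw [cj_lc]; exact lc_injective.eq_iff

theorem mem_inertia_lc (g : G) (l : Lin N) : g ∈ inertia N (lc l) ↔ cl N g l = l := inv_iff N g l

theorem inertia_eq_top {θ : N → ℂ} : inertia N θ = ⊤ ↔ ∀ g : G, cj N g θ = θ := by
  rw [Subgroup.eq_top_iff']
  rfl

end

section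

variable (N : Subgroup G) [hN : N.Normal] [Fintype G] [Fintype N]

/-- `χ` lies over `θ`. -/
def Ov (χ : G → ℂ) (θ : N → ℂ) : Prop := classInner (fun n : N => χ n) θ ≠ 0

theorem exists_deg {χ : IrrCharacter G} {θ : N → ℂ} (hθ : IsIrrCharacter N θ) (h : Ov N (χ : G → ℂ) θ) :
    ∃ e : ℕ, classInner (fun n : N => (χ : G → ℂ) n) θ = e ∧
      charDegree (χ : G → ℂ) = e * ((inertia N θ).index * charDegree θ) := by
  obtain ⟨e, he⟩ := classInner_natCast (isCharacter_restrict (irr_isCharacter χ) N) (isCharacter_of_isIrr hθ)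
  refine ⟨e, he, ?_⟩
  have h1 := clifford_degree N χ.2 hθ h
  rw [he, H79.irr_one, H79.char_one_eq (isCharacter_of_isIrr hθ)] at h1
  exact_mod_cast h1

theorem index_dvd {χ : IrrCharacter G} {θ : N → ℂ} (hθ : IsIrrCharacter N θ) (h : Ov N (χ : G → ℂ) θ) :
    (inertia N θ).index ∣ charDegree (χ : G → ℂ) := by
  obtain ⟨e, -, h1⟩ := exists_deg N hθ h
  rw [h1]
  exact Dvd.dvd.mul_left (dvd_mul_right _ _) _

theorem deg_dvd {χ : IrrCharacter G} {θ : N → ℂ} (hθ : IsIrrCharacter N θ) (h : Ov N (χ : G → ℂ) θ) :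
    charDegree θ ∣ charDegree (χ : G → ℂ) := by
  obtain ⟨e, -, h1⟩ := exists_deg N hθ h
  rw [h1]
  exact Dvd.dvd.mul_left (dvd_mul_left _ _) _

theorem exists_ov {θ : N → ℂ} (hθ : IsIrrCharacter N θ) : ∃ χ : IrrCharacter G, Ov N (χ : G → ℂ) θ := by
  obtain ⟨χ, hχ, h⟩ := exists_over N hθ
  exact ⟨⟨χ, hχ⟩, h⟩

theorem exists_below (χ : IrrCharacter G) : ∃ θ : N → ℂ, IsIrrCharacter N θ ∧ Ov N (χ : G → ℂ) θ :=
  exists_constituent_restrict N (irr_isCharacter χ) (H79.irr_one_ne_zero χ)

/-- A nontrivial invariant linear character of prime power order does not occur with multiplicity prime to `r`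
in a character of `G`, if `N` lies in the derived subgroup. -/
theorem false_of_mult (hNG : N ≤ commutator G) {r : ℕ} (hr : r.Prime) {l : Lin N} {k : ℕ}
    (hl : l ^ r ^ k = 1) (hl1 : l ≠ 1) (hinv : ∀ g, cj N g (lc l) = lc l)
    {Ψ : G → ℂ} (hΨ : IsCharacter G Ψ) {m : ℕ} (hm : ¬ r ∣ m) (hin : classInner (fun n : N => Ψ n) (lc l) = m) :
    False := by
  obtain ⟨χ, hχ, hext⟩ := exists_extension_of_primes_det (lc_irr l) hinv (fun p hp => by
    by_cases hpr : p = r
    · subst hpr
      exact Or.inl ⟨Ψ, m, hΨ, hm, hin⟩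
    · refine Or.inr ⟨1, r ^ k, 1, by simp, ?_, fun n => ?_⟩
      · rw [one_mul]
        intro h
        exact hpr ((Nat.prime_dvd_prime_iff_eq hp hr).mp (hp.dvd_of_dvd_pow h))
      · have h1 := detChar_eq (repOfHom ((Units.coeHom ℂ).comp l))
          (by rw [repOfHom_character]; exact lc_irr l)
        rw [repOfHom_character] at h1
        have h2 : detChar (lc l) n = lc l n := by
          rw [lc_eq, h1, detHom_apply]
          simp [repOfHom]
        rw [h2]
        have h3 := congrFun (lc_pow l (r ^ k)) n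
        rw [hl, lc_one] at h3
        rw [MonoidHom.one_apply]
        exact h3.symm)
  apply hl1
  have h1 : χ 1 = 1 := by
    have := hext 1
    simpa using this
  ext n
  have h2 := hext n
  have h3 : χ n = 1 := by
    have h4 := hNG n.2
    have h5 : commutator G ≤ linKer (isCharacter_of_isIrr hχ) h1 := by
      rw [commutator_def, Subgroup.commutator_le]
      intro a _ b _
      rw [mem_linKer, commutatorElement_def, linChar_mul (isCharacter_of_isIrr hχ) h1,
        linChar_conj_elt (isCharacter_of_isIrr hχ) h1, linChar_inv (isCharacter_of_isIrr hχ) h1,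
        mul_inv_cancel₀ (linChar_ne_zero (isCharacter_of_isIrr hχ) h1 b)]
    exact h5 h4
  rw [h3] at h2
  simpa [lc] using h2.symm

/-- The orbit of `θ l` for invariant `l`: `l` times the orbit of `θ`. -/
theorem cj_mul_lc_of_inv {l : Lin N} (hinv : ∀ g, cj N g (lc l) = lc l) (g : G) (θ : N → ℂ) :
    cj N g (θ * lc l) = cj N g θ * lc l := by
  rw [cj_mul_fun, hinv]

theorem dvd_of_inv (hNG : N ≤ commutator G) {r : ℕ} (hr : r.Prime) {l : Lin N} {k : ℕ}
    (hl : l ^ r ^ k = 1) (hl1 : l ≠ 1) (hinv : ∀ g, cj N g (lc l) = lc l) {θ : N → ℂ}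
    (hθ : IsIrrCharacter N θ) {χ ξ : IrrCharacter G} (h1 : Ov N (χ : G → ℂ) θ)
    (h2 : Ov N (ξ : G → ℂ) (θ * lc l)) (hχ : ¬ r ∣ charDegree (χ : G → ℂ)) : r ∣ charDegree (ξ : G → ℂ) := by
  classical
  by_contra hξ
  obtain ⟨e, he, hed⟩ := exists_deg N hθ h1
  obtain ⟨e', he', hed'⟩ := exists_deg N (irr_mul_lc hθ l) h2
  have hclif := clifford N χ.2 hθ h1
  rw [he] at hclif
  have hΨ : IsCharacter G ((fun g => conj ((χ : G → ℂ) g)) * (ξ : G → ℂ)) :=
    isCharacter_mul (isCharacter_of_isIrr (isIrrCharacter_conj χ.2)) (irr_isCharacter ξ)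
  refine false_of_mult N hNG hr hl hl1 hinv hΨ (m := e * ((inertia N θ).index * e')) ?_ ?_
  · intro hd
    rcases hr.dvd_mul.mp hd with h | h
    · exact hχ (by rw [hed]; exact Dvd.dvd.mul_right h _)
    · rcases hr.dvd_mul.mp h with h | h
      · exact hχ (by rw [hed]; exact Dvd.dvd.mul_left (Dvd.dvd.mul_right h _) _)
      · exact hξ (by rw [hed']; exact Dvd.dvd.mul_right h _)
  · have e1 : classInner (fun n : N => ((fun g => conj ((χ : G → ℂ) g)) * (ξ : G → ℂ)) n) (lc l) =
        classInner (fun n : N => (ξ : G → ℂ) n) ((fun n : N => (χ : G → ℂ) n) * lc l) := by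
      unfold classInner
      congr 1
      refine Finset.sum_congr rfl fun n _ => ?_
      simp only [Pi.mul_apply, map_mul]
      ring
    rw [e1, hclif]
    have e2 : ((e : ℂ) • ∑ ψ ∈ orb N θ, ψ) * lc l = (e : ℂ) • ∑ ψ ∈ orb N θ, ψ * lc l := by
      rw [smul_mul_assoc, Finset.sum_mul]
    rw [e2, classInner_smul_right, classInner_sum_right]
    have e3 : ∀ ψ ∈ orb N θ, classInner (fun n : N => (ξ : G → ℂ) n) (ψ * lc l) = e' := by
      intro ψ hψ
      obtain ⟨g, rfl⟩ := (mem_orb N).mp hψ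
      rw [← cj_mul_lc_of_inv N hinv g θ, classInner_restrict_cj N (isClassFunction_of_isCharacter (irr_isCharacter ξ)), he']
    rw [Finset.sum_congr rfl e3, Finset.sum_const, card_orb, nsmul_eq_mul, Complex.conj_natCast]
    push_cast
    ring

theorem pow_card_eq_one (t : Lin N) : t ^ Nat.card N = 1 := by
  ext n
  simp only [pow_app, one_app, Units.val_one]
  rw [← map_pow, pow_card_eq_one', map_one, Units.val_one]

theorem orderOf_pos' (t : Lin N) : 0 < orderOf t :=
  orderOf_pos_iff.mpr (isOfFinOrder_iff_pow_eq_one.mpr ⟨Nat.card N, Nat.card_pos, pow_card_eq_one N t⟩)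

theorem isCharacter_pow {Ψ : G → ℂ} (h : IsCharacter G Ψ) (c : ℕ) : IsCharacter G (Ψ ^ c) := by
  induction c with
  | zero => rw [pow_zero]; exact isCharacter_one
  | succ c ih => rw [pow_succ]; exact isCharacter_mul ih h

theorem dvd_of_dvd_order (hNG : N ≤ commutator G) {s : ℕ} (hs : s.Prime) {t : Lin N}
    (hinv : ∀ g, cj N g (lc t) = lc t) (ht : s ∣ orderOf t) {χ : IrrCharacter G}
    (h : Ov N (χ : G → ℂ) (lc t)) : s ∣ charDegree (χ : G → ℂ) := by
  classical
  by_contra hχ
  obtain ⟨c, hc⟩ := ht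
  obtain ⟨e, he, hed⟩ := exists_deg N (lc_irr t) h
  have hc0 : 0 < c := Nat.pos_of_ne_zero (by
    rintro rfl
    have := orderOf_pos' N t
    omega)
  have h1 : (t ^ c) ^ s ^ 1 = 1 := by
    rw [pow_one, ← pow_mul, mul_comm, ← hc, pow_orderOf_eq_one]
  have h2 : t ^ c ≠ 1 := by
    intro h3
    have := orderOf_dvd_of_pow_eq_one h3
    rw [hc] at this
    have := Nat.le_of_dvd hc0 this
    have := hs.two_le
    nlinarith
  have hinv' : ∀ g, cj N g (lc (t ^ c)) = lc (t ^ c) := by
    intro g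
    rw [inv_iff, cl_pow, (inv_iff N g t).mp (hinv g)]
  have hres := Char.restrict_eq_smul_of_invariant N χ.2 (lc_irr t) h hinv
  rw [he] at hres
  refine false_of_mult N hNG hs h1 h2 hinv' (isCharacter_pow (irr_isCharacter χ) c) (m := e ^ c) ?_ ?_
  · intro h3
    exact hχ (by rw [hed]; exact Dvd.dvd.mul_right (hs.dvd_of_dvd_pow h3) _)
  · have e1 : (fun n : N => ((χ : G → ℂ) ^ c) n) = ((e ^ c : ℕ) : ℂ) • lc (t ^ c) := by
      funext n
      have := congrFun hres n
      simp only [Pi.pow_apply, Pi.smul_apply, smul_eq_mul, lc_pow] at this ⊢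
      rw [this, mul_pow]
      push_cast
      ring
    rw [e1, classInner_smul_left]
    have e2 := classInner_self_of_irr (lc_irr (t ^ c))
    rw [e2, mul_one]

/-- `S` a character of degree prime to `r`, `ν` a linear character of `r`-power order with `ν S = S`: `ν = 1`. -/
theorem eq_one_of_mul_eq {r : ℕ} (hr : r.Prime) {S : N → ℂ} (hS : IsCharacter N S) (hd : ¬ r ∣ charDegree S)
    {ν : Lin N} {k : ℕ} (hν : ν ^ r ^ k = 1) (h : S * lc ν = S) : ν = 1 := by
  classical
  by_contra hne
  obtain ⟨M, hM⟩ := H76.exists_isPModular hr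
  have hMp := Blk.isPrime_of_isPModular hM
  -- an `r`-element on which `ν` is not trivial
  obtain ⟨x, hx⟩ : ∃ x : N, ν x ≠ 1 := by
    by_contra hcon
    push Not at hcon
    exact hne (by ext n; rw [hcon n]; rfl)
  obtain ⟨a, m, hm, ham⟩ := Nat.exists_eq_pow_mul_and_not_dvd (orderOf_pos x).ne' r hr.ne_one
  have hcop : Nat.Coprime (r ^ k) m := Nat.Coprime.pow_left k ((Nat.Prime.coprime_iff_not_dvd hr).mpr hm)
  have hy : ν (x ^ m) ≠ 1 := by
    intro h1
    apply hx
    have h2 : ν x ^ r ^ k = 1 := by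
      have := DFunLike.congr_fun hν x
      simpa [pow_app] using this
    have h3 : ν x ^ m = 1 := by rw [← map_pow, h1]
    have h4 := orderOf_dvd_of_pow_eq_one h2
    have h5 := orderOf_dvd_of_pow_eq_one h3
    have h6 := Nat.dvd_gcd h4 h5
    rw [hcop] at h6
    exact orderOf_eq_one_iff.mp (Nat.dvd_one.mp h6)
  have hSy : S (x ^ m) = 0 := by
    have h1 := congrFun h (x ^ m)
    rw [Pi.mul_apply] at h1
    by_contra h2
    apply hy
    have h3 : lc ν (x ^ m) = 1 := by
      have : S (x ^ m) * (lc ν (x ^ m) - 1) = 0 := by rw [mul_sub, h1]; ring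
      rcases mul_eq_zero.mp this with h4 | h4
      · exact absurd h4 h2
      · exact sub_eq_zero.mp h4
    exact Units.ext h3
  have h1 : (x ^ m) ^ r ^ a = 1 := by
    rw [← pow_mul, mul_comm, ← ham, pow_orderOf_eq_one]
  have h2 := Char.MP.rd_char_pow hM hS (x ^ m) a
  rw [h1, hSy, Blk.rd_zero, zero_pow (pow_pos hr.pos a).ne', H79.char_one_eq hS, Blk.rd_natCast] at h2
  have := Fact.mk hr
  have := Blk.charP_kM hM
  exact hd ((CharP.cast_eq_zero_iff (Blk.kM M) r _).mp h2)

end

end Cfsg.Agent.RelDeg
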