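import Cfsg.Agent.RelDeg.Final
import Cfsg.Agent.H79.Linearity
import Cfsg.Agent.H75.CenterDeg
import Cfsg.Agent.Coh.DegBound

/-!
# The disconnected case: diameters (helper78)
-/

set_option autoImplicit false
set_option linter.unusedSectionVars false

namespace Cfsg.Agent.RelDeg

open Cfsg Cfsg.Agent.CharBase Cfsg.Agent.Char

universe u

theorem lc_map_mul {G : Type u} [Group G] {N : Subgroup G} (l : Lin N) (a b : N) :
    lc l (a * b) = lc l a * lc l b := by
  unfold lc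
  rw [map_mul, Units.val_mul]

theorem lc_map_inv {G : Type u} [Group G] {N : Subgroup G} (l : Lin N) (a : N) :
    lc l a⁻¹ = (lc l a)⁻¹ := by
  unfold lc
  rw [map_inv, Units.val_inv_eq_inv_val]

section one

variable {H : Type u} [Group H] [Finite H]

theorem deg_eq_one_of_commutator (χ : IrrCharacter H) (h : ¬ NT (commutator H) χ) :
    charDegree (χ : H → ℂ) = 1 := by
  unfold NT at h
  push Not at h
  have h1 := H79.linear_of_commutators χ (fun a b => h _ (by
    rw [commutator_def]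
    exact Subgroup.commutator_mem_commutator (Subgroup.mem_top a) (Subgroup.mem_top b)))
  exact H79.charDegree_eq (n := 1) (by simpa using h1)

theorem not_nt_of_linear (χ : IrrCharacter H) (h : charDegree (χ : H → ℂ) = 1) : ¬ NT (commutator H) χ := by
  rintro ⟨x, hx, hne⟩
  have h1 : (χ : H → ℂ) 1 = 1 := by rw [H79.irr_one, h]; simp
  apply hne
  rw [h1]
  have h5 : commutator H ≤ linKer (irr_isCharacter χ) h1 := by
    rw [commutator_def, Subgroup.commutator_le]
    intro a _ b _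
    rw [mem_linKer, commutatorElement_def, linChar_mul (irr_isCharacter χ) h1,
      linChar_conj_elt (irr_isCharacter χ) h1, linChar_inv (irr_isCharacter χ) h1,
      mul_inv_cancel₀ (linChar_ne_zero (irr_isCharacter χ) h1 b)]
  exact h5 hx

/-- An irreducible character of degree prime to `|H : H'|` over a linear character of `H'` is linear. -/
theorem deg_eq_one_of_coprime [Fintype H] [Fintype (commutator H)] {θ : IrrCharacter H} {ν : Lin (commutator H)}
    (hν : Ov (commutator H) (θ : H → ℂ) (lc ν))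
    (hcop : Nat.Coprime (charDegree (θ : H → ℂ)) (commutator H).index) : charDegree (θ : H → ℂ) = 1 := by
  have h1 := index_dvd (commutator H) (lc_irr ν) hν
  have h2 : (inertia (commutator H) (lc ν)).index ∣ (commutator H).index :=
    Subgroup.index_dvd_of_le (le_inertia _ (isClassFunction_of_isCharacter (lc_char ν)))
  have h3 : (inertia (commutator H) (lc ν)).index = 1 := Nat.eq_one_of_dvd_coprimes hcop h1 h2
  rw [Subgroup.index_eq_one] at h3
  have hinv := (inertia_eq_top _).mp h3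
  have hres := Char.restrict_eq_smul_of_invariant (commutator H) θ.2 (lc_irr ν) hν hinv
  have h4 : ∀ n ∈ commutator H, ∀ g : H, (θ : H → ℂ) (n * g * n⁻¹ * g⁻¹) = (θ : H → ℂ) 1 := by
    intro n hn g
    have hm : n * g * n⁻¹ * g⁻¹ = n * (g * n⁻¹ * g⁻¹) := by group
    have hgn : g * n⁻¹ * g⁻¹ ∈ commutator H := Subgroup.Normal.conj_mem inferInstance _ (inv_mem hn) g
    have e1 := congrFun hres (⟨n, hn⟩ * ⟨g * n⁻¹ * g⁻¹, hgn⟩)
    have e2 := congrFun hres 1
    have e3 : lc ν (⟨n, hn⟩ * ⟨g * n⁻¹ * g⁻¹, hgn⟩) = 1 := by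
      have e4 := congrFun (hinv g) (⟨n, hn⟩⁻¹)
      rw [cj_apply] at e4
      rw [lc_map_mul]
      have e6 : lc ν ⟨g * n⁻¹ * g⁻¹, hgn⟩ = lc ν (⟨n, hn⟩⁻¹) := e4
      rw [e6, lc_map_inv, mul_inv_cancel₀ (lc_ne_zero ν _)]
    rw [hm]
    have e7 : (θ : H → ℂ) (n * (g * n⁻¹ * g⁻¹)) = _ := e1
    rw [e7, Pi.smul_apply, e3]
    have e8 : (θ : H → ℂ) 1 = _ := e2
    rw [e8, Pi.smul_apply, lc_one_apply]
  have h5 := H75.deg_dvd_index_of_scalar θ (commutator H) h4
  rw [← H75.charDegree_eq_deg] at h5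
  exact Nat.eq_one_of_dvd_coprimes hcop dvd_rfl h5

theorem exists_not_coprime [hsol : Group.IsSolvable H] (hne : commutator H ≠ ⊥) :
    ∃ θ : IrrCharacter H, charDegree (θ : H → ℂ) ≠ 1 ∧
      ¬ Nat.Coprime (charDegree (θ : H → ℂ)) (commutator H).index := by
  have := Fintype.ofFinite H
  have := Fintype.ofFinite (commutator H)
  have hlt : ⁅commutator H, commutator H⁆ < commutator H := Group.IsSolvable.commutator_lt_of_ne_bot hne
  obtain ⟨r, hr, hrm⟩ := Nat.exists_prime_and_dvd (relIndex_ne_one (commutator H) hlt)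
  obtain ⟨l, hl1, -, -⟩ := exists_lin (commutator H) hr hrm
  obtain ⟨θ, hθ⟩ := exists_ov (commutator H) (lc_irr l)
  have h1 : charDegree (θ : H → ℂ) ≠ 1 := fun h =>
    not_nt_of_linear θ h (nt_of_ov (commutator H) (lc_irr l) (lc_ne_one _ hl1) hθ)
  exact ⟨θ, h1, fun h => h1 (deg_eq_one_of_coprime hθ h)⟩

end one

section

variable {G : Type u} [Group G]

/-- common neighbour (or adjacent, or equal). -/
def CN (N : Subgroup G) (a b : ℕ) : Prop :=
  ∃ d ∈ relCharDegrees N, ∃ p q : ℕ, p.Prime ∧ q.Prime ∧ p ∣ a ∧ p ∣ d ∧ q ∣ b ∧ q ∣ d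

theorem CN.symm {N : Subgroup G} {a b : ℕ} (h : CN N a b) : CN N b a := by
  obtain ⟨d, hd, p, q, hp, hq, h1, h2, h3, h4⟩ := h
  exact ⟨d, hd, q, p, hq, hp, h3, h4, h1, h2⟩

theorem rel_mono {M N : Subgroup G} (h : M ≤ N) : relCharDegrees M ⊆ relCharDegrees N := by
  rintro a ⟨χ, ⟨x, hx, hne⟩, rfl⟩
  exact ⟨χ, ⟨x, h hx, hne⟩, rfl⟩

theorem CN.mono {M N : Subgroup G} (hMN : M ≤ N) {a b : ℕ} (h : CN M a b) : CN N a b := by
  obtain ⟨d, hd, p, q, hp, hq, h1, h2, h3, h4⟩ := h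
  exact ⟨d, rel_mono hMN hd, p, q, hp, hq, h1, h2, h3, h4⟩

theorem Conn.mono {M N : Subgroup G} (hMN : M ≤ N) {a b : ℕ} (h : Conn M a b) : Conn N a b := by
  obtain ⟨ha, hb, h⟩ := h
  let f : (commonDivisorGraph.induce (relCharDegrees M)) →g (commonDivisorGraph.induce (relCharDegrees N)) :=
    { toFun := fun x => ⟨x.1, rel_mono hMN x.2⟩
      map_rel' := fun {x y} h => h }
  exact ⟨rel_mono hMN ha, rel_mono hMN hb, h.map f⟩

end

section

variable {G : Type u} [Group G] (N : Subgroup G) [hN : N.Normal] [Fintype G] [Fintype N]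

/-- No nontrivial invariant linear characters of prime order. -/
def NoInv : Prop := ∀ (r : ℕ) (l : Lin N), r.Prime → l ^ r = 1 → l ≠ 1 → ¬ ∀ g, cl N g l = l

theorem noInv_of_disconnected (hNG : N ≤ commutator G) {a b : ℕ} (ha : a ∈ relCharDegrees N)
    (hb : b ∈ relCharDegrees N) (h : ¬ Conn N a b) : NoInv N := by
  intro r l hr hl hl1 hinv
  obtain ⟨χ, hχ, rfl⟩ := ha
  obtain ⟨ξ, hξ, rfl⟩ := hb
  obtain ⟨μ, hμ⟩ := exists_ov N (lc_irr l)
  have hl' : l ^ r ^ 1 = 1 := by rw [pow_one]; exact hl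
  exact h ((conn_of_inv N hNG hr hl' hl1 hinv hχ hμ).trans (conn_of_inv N hNG hr hl' hl1 hinv hξ hμ).symm)

theorem index_ne_one_of_noInv (h : NoInv N) {r : ℕ} (hr : r.Prime) {l : Lin N} (hl : l ^ r = 1) (hl1 : l ≠ 1) :
    (inertia N (lc l)).index ≠ 1 := by
  intro h1
  rw [Subgroup.index_eq_one, Subgroup.eq_top_iff'] at h1
  exact h r l hr hl hl1 (fun g => (mem_inertia_lc N g l).mp (h1 g))

theorem exists_prime_pow {t : Lin N} (ht : t ≠ 1) : ∃ s c : ℕ, s.Prime ∧ (t ^ c) ^ s = 1 ∧ t ^ c ≠ 1 := by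
  obtain ⟨s, hs, c, hc⟩ := Nat.exists_prime_and_dvd (n := orderOf t) (fun h => ht (orderOf_eq_one_iff.mp h))
  refine ⟨s, c, hs, ?_, ?_⟩
  · rw [← pow_mul, mul_comm, ← hc, pow_orderOf_eq_one]
  · have hc0 : 0 < c := Nat.pos_of_ne_zero (by
      rintro rfl
      have := orderOf_pos' N t
      omega)
    intro h3
    have := orderOf_dvd_of_pow_eq_one h3
    rw [hc] at this
    have := Nat.le_of_dvd hc0 this
    have := hs.two_le
    nlinarith

theorem inertia_le_pow (t : Lin N) (c : ℕ) : inertia N (lc t) ≤ inertia N (lc (t ^ c)) := by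
  intro g hg
  rw [mem_inertia_lc] at hg ⊢
  rw [cl_pow, hg]

theorem dvd_relIndex_of_lin {r : ℕ} (hr : r.Prime) {l : Lin N} (hl : l ^ r = 1) (hl1 : l ≠ 1) :
    r ∣ ⁅N, N⁆.relIndex N := by
  have h0 : orderOf l = r := by
    have := Fact.mk hr
    exact orderOf_eq_prime hl hl1
  have h1 : r ∣ Nat.card (Lin N) := h0 ▸ orderOf_dvd_natCard l
  rw [relIndex_commutator]
  obtain ⟨e⟩ := CommGroup.monoidHom_mulEquiv_of_hasEnoughRootsOfUnity (Abelianization N) ℂ
  rw [← Nat.card_congr e.toEquiv]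
  have e2 : Lin N ≃ (Abelianization N →* ℂˣ) := Abelianization.lift
  rwa [← Nat.card_congr e2]

variable {N}

/-- one of the two characters lies over a linear character. -/
theorem cn_of_linear (hni : NoInv N) {χ χ' : IrrCharacter G}
    (hχm : Nat.Coprime (charDegree (χ : G → ℂ)) (⁅N, N⁆.relIndex N)) (hχ : NT N χ) (hχ' : NT N χ')
    (hχm' : Nat.Coprime (charDegree (χ' : G → ℂ)) (⁅N, N⁆.relIndex N)) {θ : N → ℂ} (hθ : IsIrrCharacter N θ)
    (hχθ : Ov N (χ : G → ℂ) θ) {t' : Lin N} (hχt' : Ov N (χ' : G → ℂ) (lc t')) :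
    CN N (charDegree (χ : G → ℂ)) (charDegree (χ' : G → ℂ)) := by
  have ht' : t' ≠ 1 := by
    rintro rfl
    exact ne_one_of_nt N hχ' hχt' lc_one
  obtain ⟨s, c', hs, hl's, hl'1⟩ := exists_prime_pow N ht'
  set l' := t' ^ c' with hl'def
  have hsm := dvd_relIndex_of_lin N hs hl's hl'1
  have hl's1 : l' ^ s ^ 1 = 1 := by rw [pow_one]; exact hl's
  have hβ' := index_ne_one_of_noInv N hni hs hl's hl'1
  have hβ'χ : (inertia N (lc l')).index ∣ charDegree (χ' : G → ℂ) :=
    (Subgroup.index_dvd_of_le (inertia_le_pow N t' c')).trans (index_dvd N (lc_irr t') hχt')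
  have hsχ : ¬ s ∣ charDegree (χ : G → ℂ) := fun h =>
    hs.one_lt.ne' (Nat.eq_one_of_dvd_coprimes hχm h hsm)
  have hαχ := index_dvd N hθ hχθ
  -- common divisor of the two degrees
  have hcd : ∀ x y : ℕ, x ∣ charDegree (χ : G → ℂ) → y ∣ charDegree (χ' : G → ℂ) → ¬ Nat.Coprime x y →
      CN N (charDegree (χ : G → ℂ)) (charDegree (χ' : G → ℂ)) := by
    intro x y hx hy hxy
    obtain ⟨q, hq, hqx, hqy⟩ := Nat.Prime.not_coprime_iff_dvd.mp hxy
    exact ⟨_, mem_rel N hχ, q, q, hq, hq, hqx.trans hx, hqx.trans hx, hqy.trans hy, hqx.trans hx⟩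
  by_cases hθd : charDegree θ = 1
  · obtain ⟨t, rfl⟩ := exists_lc N hθ hθd
    have ht : t ≠ 1 := by
      rintro rfl
      exact ne_one_of_nt N hχ hχθ lc_one
    obtain ⟨r, c, hr, hlr, hl1⟩ := exists_prime_pow N ht
    set l := t ^ c with hldef
    have hrm := dvd_relIndex_of_lin N hr hlr hl1
    have hlr1 : l ^ r ^ 1 = 1 := by rw [pow_one]; exact hlr
    have hβ := index_ne_one_of_noInv N hni hr hlr hl1
    have hβχ : (inertia N (lc l)).index ∣ charDegree (χ : G → ℂ) :=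
      (Subgroup.index_dvd_of_le (inertia_le_pow N t c)).trans hαχ
    have hrχ' : ¬ r ∣ charDegree (χ' : G → ℂ) := fun h =>
      hr.one_lt.ne' (Nat.eq_one_of_dvd_coprimes hχm' h hrm)
    by_cases hc : Nat.Coprime (inertia N (lc l)).index (inertia N (lc l')).index
    swap
    · exact hcd _ _ hβχ hβ'χ hc
    have hd1 : ∀ m : Lin N, charDegree (lc m) = 1 := fun m => H79.charDegree_eq (by simp)
    obtain ⟨ξ, hξ⟩ := exists_ov N (irr_mul_lc (lc_irr l) l')
    have hne : lc l * lc l' ≠ fun _ => 1 := by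
      intro h
      have h1 := eq_lc_inv_of_mul_eq_one N h
      rw [h1, inertia_inv] at hc
      exact hβ' ((Nat.coprime_self _).mp hc)
    have hξn : NT N ξ := nt_of_ov N (irr_mul_lc (lc_irr l) l') hne hξ
    have hγ := index_dvd N (irr_mul_lc (lc_irr l) l') hξ
    have k1 : ¬ Nat.Coprime (inertia N (lc l * lc l')).index (inertia N (lc l')).index := by
      intro h
      exact hni s l' hs hl's hl'1 (orbit_key N hs (lc_irr l)
        (by rw [hd1, mul_one]; exact fun h => hsχ (h.trans hβχ)) hl's1 hc h)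
    have k2 : ¬ Nat.Coprime (inertia N (lc l * lc l')).index (inertia N (lc l)).index := by
      intro h
      exact hni r l hr hlr hl1 (orbit_key N hr (lc_irr l')
        (by rw [hd1, mul_one]; exact fun h => hrχ' (h.trans hβ'χ)) hlr1 hc.symm (by rw [mul_comm]; exact h))
    obtain ⟨q, hq, hq1, hq2⟩ := Nat.Prime.not_coprime_iff_dvd.mp k1
    obtain ⟨p, hp, hp1, hp2⟩ := Nat.Prime.not_coprime_iff_dvd.mp k2
    exact ⟨_, mem_rel N hξn, p, q, hp, hq, hp2.trans hβχ, hp1.trans hγ, hq2.trans hβ'χ, hq1.trans hγ⟩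
  · by_cases hc : Nat.Coprime (inertia N θ).index (inertia N (lc l')).index
    swap
    · exact hcd _ _ hαχ hβ'χ hc
    obtain ⟨ξ, hξ⟩ := exists_ov N (irr_mul_lc hθ l')
    have hne : θ * lc l' ≠ fun _ => 1 := by
      intro h
      apply hθd
      rw [← charDegree_mul_lc N (θ := θ) l', h]
      exact H79.charDegree_eq (by simp)
    have hξn : NT N ξ := nt_of_ov N (irr_mul_lc hθ l') hne hξ
    have hγ := index_dvd N (irr_mul_lc hθ l') hξ
    have k1 : ¬ Nat.Coprime (inertia N (θ * lc l')).index (inertia N (lc l')).index := by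
      intro h
      refine hni s l' hs hl's hl'1 (orbit_key N hs hθ ?_ hl's1 hc h)
      intro h
      obtain ⟨e, -, hed⟩ := exists_deg N hθ hχθ
      exact hsχ (hed ▸ Dvd.dvd.mul_left h e)
    obtain ⟨q, hq, hq1, hq2⟩ := Nat.Prime.not_coprime_iff_dvd.mp k1
    obtain ⟨p, hp, hp1⟩ := Nat.exists_prime_and_dvd hθd
    have hp2 := deg_dvd N (irr_mul_lc hθ l') hξ
    rw [charDegree_mul_lc] at hp2
    exact ⟨_, mem_rel N hξn, p, q, hp, hq, hp1.trans (deg_dvd N hθ hχθ), hp1.trans hp2, hq2.trans hβ'χ,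
      hq1.trans hγ⟩

end

end Cfsg.Agent.RelDeg
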