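import Cfsg.Agent.RelDeg.Disc

/-!
# The disconnected case: diameters, main induction (helper78)
-/

set_option autoImplicit false
set_option linter.unusedSectionVars false

namespace Cfsg.Agent.RelDeg

open Cfsg Cfsg.Agent.CharBase Cfsg.Agent.Char

universe u

section

variable {G : Type u} [Group G] (N : Subgroup G) [hN : N.Normal] [Fintype G] [Fintype N]

/-- A character of `G` over a nonlinear character of `N` is nontrivial on `N'`. -/
theorem nt_derived_of_nonlinear {χ : IrrCharacter G} {θ : N → ℂ} (hθ : IsIrrCharacter N θ)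
    (h : Ov N (χ : G → ℂ) θ) (hd : charDegree θ ≠ 1) : NT ⁅N, N⁆ χ := by
  by_contra hc
  unfold NT at hc
  push Not at hc
  apply hd
  apply deg_eq_one_of_commutator (H := N) ⟨θ, hθ⟩
  rintro ⟨x, hx, hne⟩
  apply hne
  have h1 : (x : G) ∈ ⁅N, N⁆ := by
    rw [← Subgroup.map_subtype_commutator]
    exact ⟨x, hx, rfl⟩
  exact Coh.ker_of_constituent (G := N) (isCharacter_restrict (irr_isCharacter χ) N) hθ h (hc x h1)

theorem derived_lt (hsol : Group.IsSolvable N) (hne : N ≠ ⊥) : ⁅N, N⁆ < N := by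
  have h1 : Nontrivial N := (Subgroup.nontrivial_iff_ne_bot N).mpr hne
  refine lt_of_le_of_ne (Subgroup.commutator_le_self N) (fun h => ?_)
  have h2 : commutator N = ⊤ := by
    have h3 := Subgroup.map_subtype_commutator N
    rw [h] at h3
    have h4 : (commutator N).map N.subtype = (⊤ : Subgroup N).map N.subtype := by
      rw [h3, ← MonoidHom.range_eq_map, Subgroup.range_subtype]
    exact Subgroup.map_injective (Subgroup.subtype_injective N) h4
  exact absurd h2 (Group.IsSolvable.commutator_lt_top_of_nontrivial N).ne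

theorem ne_bot_of_nt {χ : IrrCharacter G} (h : NT N χ) : N ≠ ⊥ := by
  rintro rfl
  obtain ⟨x, hx, hne⟩ := h
  rw [Subgroup.mem_bot] at hx
  exact hne (by rw [hx])

theorem exists_nt_not_coprime (hsol : Group.IsSolvable N) (hne : ⁅N, N⁆ ≠ ⊥) :
    ∃ χ : IrrCharacter G, NT ⁅N, N⁆ χ ∧ ¬ Nat.Coprime (charDegree (χ : G → ℂ)) (⁅N, N⁆.relIndex N) := by
  have h1 : commutator N ≠ ⊥ := by
    intro h
    apply hne
    rw [← Subgroup.map_subtype_commutator, h, Subgroup.map_bot]
  obtain ⟨θ, hθ1, hθ2⟩ := exists_not_coprime (H := N) h1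
  obtain ⟨χ, hχ⟩ := exists_ov N θ.2
  refine ⟨χ, nt_derived_of_nonlinear N θ.2 hχ hθ1, fun h => hθ2 ?_⟩
  have h2 := deg_dvd N θ.2 hχ
  have h3 : ⁅N, N⁆.relIndex N = (commutator N).index := by
    rw [relIndex_commutator]; rfl
  rw [h3] at h
  exact h.coprime_dvd_left h2

end

section

variable {G : Type u} [Group G] [Finite G]

theorem cn_main (n : ℕ) : ∀ (N : Subgroup G) [N.Normal], Group.IsSolvable N → Nat.card N ≤ n →
    N ≤ commutator G → ∀ a b : ℕ, Conn N a b → (∃ c ∈ relCharDegrees N, ¬ Conn N a c) → CN N a b := by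
  classical
  have := Fintype.ofFinite G
  induction n with
  | zero =>
    intro N _ _ h
    have : 0 < Nat.card N := Nat.card_pos
    omega
  | succ n ih =>
    intro N hN hsol hcard hNG a b hab ⟨c, hc, hac⟩
    have := Fintype.ofFinite N
    have ha := hab.choose
    have hb := hab.choose_spec.choose
    have ha' := ha
    have hb' := hb
    obtain ⟨χ, hχ, rfl⟩ := ha
    obtain ⟨χ', hχ', rfl⟩ := hb
    have hNne := ne_bot_of_nt N hχ
    have hlt := derived_lt N hsol hNne
    have hm1 := relIndex_ne_one N hlt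
    obtain ⟨r, hr, hrm⟩ := Nat.exists_prime_and_dvd hm1
    have hbc : ¬ Conn N (charDegree (χ' : G → ℂ)) c := fun h => hac (hab.trans h)
    rcases dichotomy N hlt hNG ha' hc hac with ⟨h1, h2⟩ | ⟨h1, h2⟩
    · rcases dichotomy N hlt hNG hb' hc hbc with ⟨h3, -⟩ | ⟨h3, -⟩
      swap
      · exact absurd (Nat.eq_one_of_dvd_coprimes h3 (h2 r hr hrm) hrm) hr.ne_one
      -- both coprime to the index
      obtain ⟨θ, hθ, hχθ⟩ := exists_below N χ
      obtain ⟨θ', hθ', hχθ'⟩ := exists_below N χ'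
      have hni := noInv_of_disconnected N hNG ha' hc hac
      by_cases hd' : charDegree θ' = 1
      · obtain ⟨t', rfl⟩ := exists_lc N hθ' hd'
        exact cn_of_linear hni h1 hχ hχ' h3 hθ hχθ hχθ'
      by_cases hd : charDegree θ = 1
      · obtain ⟨t, rfl⟩ := exists_lc N hθ hd
        exact (cn_of_linear hni h3 hχ' hχ h1 hθ' hχθ' hχθ).symm
      have hntM := nt_derived_of_nonlinear N hθ hχθ hd
      have hntM' := nt_derived_of_nonlinear N hθ' hχθ' hd'
      have hMne := ne_bot_of_nt _ hntM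
      obtain ⟨η, hη, hηm⟩ := exists_nt_not_coprime N hsol hMne
      have key : ∀ x : ℕ, x ∈ relCharDegrees N → ¬ Conn N x c → ¬ Conn N x (charDegree (η : G → ℂ)) := by
        intro x hx hxc h
        have h5 : ¬ Conn N (charDegree (η : G → ℂ)) c := fun h' => hxc (h.trans h')
        rcases dichotomy N hlt hNG (rel_mono hlt.le (mem_rel _ hη)) hc h5 with ⟨h6, -⟩ | ⟨h6, -⟩
        · exact hηm h6
        · exact absurd (Nat.eq_one_of_dvd_coprimes h6 (h2 r hr hrm) hrm) hr.ne_one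
      have k1 : ¬ Conn ⁅N, N⁆ (charDegree (χ : G → ℂ)) (charDegree (η : G → ℂ)) := fun h =>
        key _ ha' hac (h.mono hlt.le)
      have k2 : ¬ Conn ⁅N, N⁆ (charDegree (χ' : G → ℂ)) (charDegree (η : G → ℂ)) := fun h =>
        key _ hb' hbc (h.mono hlt.le)
      have hMsol : Group.IsSolvable (⁅N, N⁆ : Subgroup G) :=
        Group.isSolvable_of_isSolvable_injective (Subgroup.inclusion_injective hlt.le)
      have hMG : ⁅N, N⁆ ≤ commutator G := hlt.le.trans hNG
      have hMlt := derived_lt ⁅N, N⁆ hMsol hMne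
      obtain ⟨s, hs, hsm⟩ := Nat.exists_prime_and_dvd (relIndex_ne_one ⁅N, N⁆ hMlt)
      obtain ⟨x0, hx0, hx⟩ := exists_base ⁅N, N⁆ hMG hs hsm
      have m1 := mem_rel _ hntM
      have m2 := mem_rel _ hntM'
      have m3 := mem_rel _ hη
      have hconn : Conn ⁅N, N⁆ (charDegree (χ : G → ℂ)) (charDegree (χ' : G → ℂ)) := by
        by_cases hsa : s ∣ charDegree (χ : G → ℂ)
        · by_cases hsb : s ∣ charDegree (χ' : G → ℂ)
          · exact conn_of_prime _ hs m1 m2 hsa hsb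
          · exfalso
            by_cases hse : s ∣ charDegree (η : G → ℂ)
            · exact k1 (conn_of_prime _ hs m1 m3 hsa hse)
            · exact k2 ((hx _ m2 hsb).trans (hx _ m3 hse).symm)
        · by_cases hsb : s ∣ charDegree (χ' : G → ℂ)
          · exfalso
            by_cases hse : s ∣ charDegree (η : G → ℂ)
            · exact k2 (conn_of_prime _ hs m2 m3 hsb hse)
            · exact k1 ((hx _ m1 hsa).trans (hx _ m3 hse).symm)
          · exact (hx _ m1 hsa).trans (hx _ m2 hsb).symm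
      have hcardM : Nat.card ↥⁅N, N⁆ ≤ n := by
        have h7 : Nat.card ↥⁅N, N⁆ < Nat.card N :=
          Set.ncard_lt_ncard (SetLike.coe_ssubset_coe.mpr hlt) (Set.toFinite _)
        omega
      exact (ih ⁅N, N⁆ hMsol hcardM hMG _ _ hconn ⟨_, m3, k1⟩).mono hlt.le
    · -- both divisible by all primes
      rcases dichotomy N hlt hNG hb' hc hbc with ⟨-, h4⟩ | ⟨-, h4⟩
      · exact absurd (Nat.eq_one_of_dvd_coprimes h1 (h4 r hr hrm) hrm) hr.ne_one
      · exact ⟨_, ha', r, r, hr, hr, h2 r hr hrm, h2 r hr hrm, h4 r hr hrm, h2 r hr hrm⟩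

theorem adj_or {N : Subgroup G} {b c : ↥(relCharDegrees N)} (hbc : b ≠ c) (h : CN N b c) :
    (commonDivisorGraph.induce (relCharDegrees N)).Adj b c ∨ ∃ d : ↥(relCharDegrees N),
      (commonDivisorGraph.induce (relCharDegrees N)).Adj b d ∧
      (commonDivisorGraph.induce (relCharDegrees N)).Adj d c := by
  obtain ⟨d, hd, p, q, hp, hq, h1, h2, h3, h4⟩ := h
  have hpos : ∀ x : ↥(relCharDegrees N), (x : ℕ) ≠ 0 := by
    rintro ⟨x, χ, -, rfl⟩
    exact (H79.irr_degree_pos χ).ne'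
  have hadj : ∀ (x y : ↥(relCharDegrees N)) (r : ℕ), r.Prime → r ∣ (x : ℕ) → r ∣ (y : ℕ) → x ≠ y →
      (commonDivisorGraph.induce (relCharDegrees N)).Adj x y := by
    intro x y r hr hx hy hxy
    refine ⟨fun h => hxy (Subtype.ext h), ?_⟩
    change 1 < Nat.gcd x y
    have h5 : r ∣ Nat.gcd x y := Nat.dvd_gcd hx hy
    have h6 : 0 < Nat.gcd x y := Nat.gcd_pos_of_pos_left _ (Nat.pos_of_ne_zero (hpos x))
    exact lt_of_lt_of_le hr.one_lt (Nat.le_of_dvd h6 h5)
  by_cases hbd : (b : ℕ) = d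
  · left
    exact hadj b c q hq (hbd ▸ h4) h3 hbc
  by_cases hcd : (c : ℕ) = d
  · left
    exact hadj b c p hp h1 (hcd ▸ h2) hbc
  right
  exact ⟨⟨d, hd⟩, hadj b ⟨d, hd⟩ p hp h1 h2 (fun h => hbd (congrArg Subtype.val h)),
    hadj ⟨d, hd⟩ c q hq h4 h3 (fun h => hcd (congrArg Subtype.val h).symm)⟩

theorem disconnected_shape (N : Subgroup G) [N.Normal] (hsol : Group.IsSolvable N) (hNG : N ≤ commutator G)
    (hdisc : ¬ (commonDivisorGraph.induce (relCharDegrees N)).Preconnected) :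
    ∃ a₀ : ↥(relCharDegrees N), (∀ b c : ↥(relCharDegrees N),
      (commonDivisorGraph.induce (relCharDegrees N)).Reachable a₀ b →
      (commonDivisorGraph.induce (relCharDegrees N)).Reachable a₀ c → b ≠ c →
      (commonDivisorGraph.induce (relCharDegrees N)).Adj b c) ∧
      (∀ b c : ↥(relCharDegrees N), ¬ (commonDivisorGraph.induce (relCharDegrees N)).Reachable a₀ b →
      ¬ (commonDivisorGraph.induce (relCharDegrees N)).Reachable a₀ c → b ≠ c →
      (commonDivisorGraph.induce (relCharDegrees N)).Adj b c ∨ ∃ d : ↥(relCharDegrees N),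
        (commonDivisorGraph.induce (relCharDegrees N)).Adj b d ∧
        (commonDivisorGraph.induce (relCharDegrees N)).Adj d c) := by
  classical
  have := Fintype.ofFinite G
  have := Fintype.ofFinite N
  unfold SimpleGraph.Preconnected at hdisc
  push Not at hdisc
  obtain ⟨u, v, huv⟩ := hdisc
  have huv' : ¬ Conn N u v := fun h => huv ((conn_iff u.2 v.2).mp h)
  have hNne : N ≠ ⊥ := by
    obtain ⟨u, χ, hχ, -⟩ := u
    exact ne_bot_of_nt N hχ
  have hlt := derived_lt N hsol hNne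
  obtain ⟨r, hr, hrm⟩ := Nat.exists_prime_and_dvd (relIndex_ne_one N hlt)
  -- `a₀` divisible by all primes of the index, `z` coprime to it
  obtain ⟨a₀, z, haz, hz, ha⟩ : ∃ a₀ z : ↥(relCharDegrees N), ¬ Conn N z a₀ ∧
      Nat.Coprime z (⁅N, N⁆.relIndex N) ∧ ∀ r : ℕ, r.Prime → r ∣ ⁅N, N⁆.relIndex N → r ∣ (a₀ : ℕ) := by
    rcases dichotomy N hlt hNG u.2 v.2 huv' with ⟨h1, h2⟩ | ⟨h1, h2⟩
    · exact ⟨v, u, huv', h1, h2⟩
    · exact ⟨u, v, fun h => huv' h.symm, h1, h2⟩
  refine ⟨a₀, ?_, ?_⟩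
  · intro b c hb hc hbc
    have hb' : Conn N a₀ b := ⟨a₀.2, b.2, hb⟩
    have hc' : Conn N a₀ c := ⟨a₀.2, c.2, hc⟩
    have key : ∀ x : ↥(relCharDegrees N), Conn N a₀ x → r ∣ (x : ℕ) := by
      intro x hx
      have h1 : ¬ Conn N z x := fun h => haz (h.trans hx.symm)
      rcases dichotomy N hlt hNG z.2 x.2 h1 with ⟨-, h2⟩ | ⟨-, h2⟩
      · exact h2 r hr hrm
      · exact absurd (Nat.eq_one_of_dvd_coprimes hz (h2 r hr hrm) hrm) hr.ne_one
    refine ⟨fun h => hbc (Subtype.ext h), ?_⟩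
    change 1 < Nat.gcd b c
    have h5 : r ∣ Nat.gcd b c := Nat.dvd_gcd (key b hb') (key c hc')
    have h6 : 0 < Nat.gcd (b : ℕ) c := by
      apply Nat.gcd_pos_of_pos_left
      obtain ⟨b, χ, -, rfl⟩ := b
      exact H79.irr_degree_pos χ
    exact lt_of_lt_of_le hr.one_lt (Nat.le_of_dvd h6 h5)
  · intro b c hb hc hbc
    have hb' : ¬ Conn N b a₀ := fun h => hb ((conn_iff b.2 a₀.2).mp h).symm
    have hc' : ¬ Conn N c a₀ := fun h => hc ((conn_iff c.2 a₀.2).mp h).symm
    have key : ∀ x : ↥(relCharDegrees N), ¬ Conn N x a₀ → ¬ r ∣ (x : ℕ) := by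
      intro x hx
      rcases dichotomy N hlt hNG x.2 a₀.2 hx with ⟨h1, -⟩ | ⟨h1, -⟩
      · exact fun h => hr.ne_one (Nat.eq_one_of_dvd_coprimes h1 h hrm)
      · exact absurd (Nat.eq_one_of_dvd_coprimes h1 (ha r hr hrm) hrm) hr.ne_one
    obtain ⟨x0, hx0, hx⟩ := exists_base N hNG hr hrm
    have hconn : Conn N b c := (hx _ b.2 (key b hb')).trans (hx _ c.2 (key c hc')).symm
    exact adj_or hbc (cn_main (Nat.card N) N hsol le_rfl hNG b c hconn ⟨a₀, a₀.2, hb'⟩)

end

end Cfsg.Agent.RelDeg
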