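import Cfsg.Agent.RelDeg.Main

/-!
# The relative common-divisor graph: at most two components (helper78)

* `two_components`: S4776.
* `degree_graph_le_two`: S4811.
-/

set_option autoImplicit false
set_option linter.unusedSectionVars false

namespace Cfsg.Agent.RelDeg

open Cfsg Cfsg.Agent.CharBase Cfsg.Agent.Char

universe u

variable {G : Type u} [Group G]

theorem card_components_le_two {V : Type*} (Γ : SimpleGraph V) (x0 y0 : V)
    (h : ∀ v, Γ.Reachable v x0 ∨ Γ.Reachable v y0) : Nat.card Γ.ConnectedComponent ≤ 2 := by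
  classical
  let f : Bool → Γ.ConnectedComponent := fun b => if b then Γ.connectedComponentMk x0 else Γ.connectedComponentMk y0
  have hf : Function.Surjective f := by
    intro c
    induction c using SimpleGraph.ConnectedComponent.ind with
    | _ v =>
      rcases h v with h1 | h1
      · exact ⟨true, (SimpleGraph.ConnectedComponent.eq.mpr h1).symm⟩
      · exact ⟨false, (SimpleGraph.ConnectedComponent.eq.mpr h1).symm⟩
  have := Nat.card_le_card_of_surjective f hf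
  simpa using this

theorem conn_iff {N : Subgroup G} {a b : ℕ} (ha : a ∈ relCharDegrees N) (hb : b ∈ relCharDegrees N) :
    Conn N a b ↔ (commonDivisorGraph.induce (relCharDegrees N)).Reachable ⟨a, ha⟩ ⟨b, hb⟩ :=
  ⟨fun ⟨_, _, h⟩ => h, fun h => ⟨ha, hb, h⟩⟩

section

variable (N : Subgroup G) [hN : N.Normal] [Finite G]

theorem exists_base (hNG : N ≤ commutator G) {r : ℕ} (hr : r.Prime) (h : r ∣ ⁅N, N⁆.relIndex N) :
    ∃ x0 ∈ relCharDegrees N, ∀ a ∈ relCharDegrees N, ¬ r ∣ a → Conn N a x0 := by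
  have := Fintype.ofFinite G
  have := Fintype.ofFinite N
  obtain ⟨l, hl1, hl, hlr⟩ := exists_lin N hr h
  obtain ⟨μ, hμ⟩ := exists_ov N (lc_irr l)
  refine ⟨_, mem_rel N (nt_of_ov N (lc_irr l) (lc_ne_one N hl1) hμ), ?_⟩
  rintro a ⟨χ, hχ, rfl⟩ hra
  exact conn_of_ndvd N hNG hr hl hl1 hlr hχ hra hμ

theorem conn_of_prime {r : ℕ} (hr : r.Prime) {a b : ℕ} (ha : a ∈ relCharDegrees N)
    (hb : b ∈ relCharDegrees N) (h1 : r ∣ a) (h2 : r ∣ b) : Conn N a b := by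
  refine conn_of_dvd ha hb hr.ne_one ?_ h1 h2
  obtain ⟨χ, -, rfl⟩ := ha
  exact (H79.irr_degree_pos χ).ne'

theorem relIndex_ne_one (hN1 : ⁅N, N⁆ < N) : ⁅N, N⁆.relIndex N ≠ 1 := by
  intro h
  rw [Subgroup.relIndex_eq_one] at h
  exact absurd h (not_le_of_gt hN1)

theorem card_le_two (hN1 : ⁅N, N⁆ < N) (hNG : N ≤ commutator G) :
    Nat.card (commonDivisorGraph.induce (relCharDegrees N)).ConnectedComponent ≤ 2 := by
  classical
  obtain ⟨r, hr, hrm⟩ := Nat.exists_prime_and_dvd (relIndex_ne_one N hN1)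
  obtain ⟨x0, hx0, hx⟩ := exists_base N hNG hr hrm
  by_cases h : ∃ y0 ∈ relCharDegrees N, r ∣ y0
  · obtain ⟨y0, hy0, hry⟩ := h
    refine card_components_le_two _ ⟨x0, hx0⟩ ⟨y0, hy0⟩ ?_
    rintro ⟨a, ha⟩
    by_cases hra : r ∣ a
    · exact Or.inr ((conn_iff ha hy0).mp (conn_of_prime N hr ha hy0 hra hry))
    · exact Or.inl ((conn_iff ha hx0).mp (hx a ha hra))
  · push Not at h
    refine card_components_le_two _ ⟨x0, hx0⟩ ⟨x0, hx0⟩ ?_
    rintro ⟨a, ha⟩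
    exact Or.inl ((conn_iff ha hx0).mp (hx a ha (h a ha)))

/-- In the disconnected case, `r`, `s` dividing the index. -/
theorem conn_of_mixed (hNG : N ≤ commutator G) {r s : ℕ} (hr : r.Prime) (hs : s.Prime) (hrs : r ≠ s)
    (hrm : r ∣ ⁅N, N⁆.relIndex N) (hsm : s ∣ ⁅N, N⁆.relIndex N) {a b : ℕ} (ha : a ∈ relCharDegrees N)
    (hb : b ∈ relCharDegrees N) (hsa : ¬ s ∣ a) (hrb : ¬ r ∣ b) : Conn N a b := by
  have := Fintype.ofFinite G
  have := Fintype.ofFinite N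
  obtain ⟨l, hl1, hl, hlr⟩ := exists_lin N hr hrm
  obtain ⟨t, ht1, ht, hts⟩ := exists_lin N hs hsm
  obtain ⟨μ, hμ⟩ := exists_ov N (lc_irr l)
  obtain ⟨η, hη⟩ := exists_ov N (lc_irr t)
  obtain ⟨χ, hχ, rfl⟩ := ha
  obtain ⟨ξ, hξ, rfl⟩ := hb
  have hl' : l ^ r ^ 1 = 1 := by rw [pow_one]; exact hl
  have ht' : t ^ s ^ 1 = 1 := by rw [pow_one]; exact ht
  by_cases hli : ∀ g, cl N g l = l
  · exact (conn_of_inv N hNG hr hl' hl1 hli hχ hμ).trans (conn_of_inv N hNG hr hl' hl1 hli hξ hμ).symm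
  by_cases hti : ∀ g, cl N g t = t
  · exact (conn_of_inv N hNG hs ht' ht1 hti hχ hη).trans (conn_of_inv N hNG hs ht' ht1 hti hξ hη).symm
  have hcop : Nat.Coprime r s := (Nat.coprime_primes hr hs).mpr hrs
  have c1 := conn_of_ndvd N hNG hs ht ht1 hts hχ hsa hη
  have c2 := conn_of_ndvd N hNG hr hl hl1 hlr hξ hrb hμ
  obtain ⟨ζ, hζ⟩ := exists_ov N (lc_irr (t * l))
  obtain ⟨hle1, hle2⟩ := inertia_mul_le N hcop ht hl
  have hζd := index_dvd N (lc_irr (t * l)) hζ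
  have hne1 : t * l ≠ 1 := by
    intro h
    obtain ⟨m, hm⟩ := exists_pow_eq N hcop ht hl
    rw [h, one_pow] at hm
    exact hl1 hm.symm
  have hζn : NT N ζ := nt_of_ov N (lc_irr _) (lc_ne_one N hne1) hζ
  have hμn : NT N μ := nt_of_ov N (lc_irr _) (lc_ne_one N hl1) hμ
  have hηn : NT N η := nt_of_ov N (lc_irr _) (lc_ne_one N ht1) hη
  have i1 : (inertia N (lc l)).index ≠ 1 := by
    intro h
    rw [Subgroup.index_eq_one, Subgroup.eq_top_iff'] at h
    exact hli (fun g => (mem_inertia_lc N g l).mp (h g))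
  have i2 : (inertia N (lc t)).index ≠ 1 := by
    intro h
    rw [Subgroup.index_eq_one, Subgroup.eq_top_iff'] at h
    exact hti (fun g => (mem_inertia_lc N g t).mp (h g))
  have c3 := conn_nt hζn hμn i1 ((Subgroup.index_dvd_of_le hle1).trans hζd) (index_dvd N (lc_irr l) hμ)
  have c4 := conn_nt hζn hηn i2 ((Subgroup.index_dvd_of_le hle2).trans hζd) (index_dvd N (lc_irr t) hη)
  exact c1.trans (c4.symm.trans (c3.trans c2.symm))

theorem dichotomy (hN1 : ⁅N, N⁆ < N) (hNG : N ≤ commutator G) {a b : ℕ} (ha : a ∈ relCharDegrees N)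
    (hb : b ∈ relCharDegrees N) (h : ¬ Conn N a b) :
    (Nat.Coprime a (⁅N, N⁆.relIndex N) ∧ ∀ r : ℕ, r.Prime → r ∣ ⁅N, N⁆.relIndex N → r ∣ b) ∨
      (Nat.Coprime b (⁅N, N⁆.relIndex N) ∧ ∀ r : ℕ, r.Prime → r ∣ ⁅N, N⁆.relIndex N → r ∣ a) := by
  have h1 : ∀ r : ℕ, r.Prime → r ∣ ⁅N, N⁆.relIndex N → (r ∣ a ∨ r ∣ b) := by
    intro r hr hrm
    by_contra hc
    push Not at hc
    obtain ⟨x0, hx0, hx⟩ := exists_base N hNG hr hrm
    exact h ((hx a ha hc.1).trans (hx b hb hc.2).symm)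
  have h2 : ∀ r : ℕ, r.Prime → r ∣ a → ¬ r ∣ b := fun r hr ha' hb' => h (conn_of_prime N hr ha hb ha' hb')
  by_cases hA : ∀ r : ℕ, r.Prime → r ∣ ⁅N, N⁆.relIndex N → r ∣ b
  · left
    refine ⟨Nat.coprime_of_dvd fun r hr hra hrm => ?_, hA⟩
    exact h2 r hr hra (hA r hr hrm)
  · push Not at hA
    obtain ⟨r, hr, hrm, hrb⟩ := hA
    right
    have hB : ∀ s : ℕ, s.Prime → s ∣ ⁅N, N⁆.relIndex N → s ∣ a := by
      intro s hs hsm
      by_contra hsa
      by_cases hrs : r = s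
      · subst hrs
        rcases h1 r hr hrm with h3 | h3
        · exact hsa h3
        · exact hrb h3
      · exact h (conn_of_mixed N hNG hr hs hrs hrm hsm ha hb hsa hrb)
    refine ⟨Nat.coprime_of_dvd fun s hs hsb hsm => ?_, hB⟩
    exact h2 s hs (hB s hs hsm) hsb

end

end Cfsg.Agent.RelDeg
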