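import Cfsg.Agent.RelDeg.Orbit
import Mathlib.Combinatorics.SimpleGraph.Connectivity.Connected

/-!
# The relative common-divisor graph has at most two components (helper78)
-/

set_option autoImplicit false
set_option linter.unusedSectionVars false

namespace Cfsg.Agent.RelDeg

open Cfsg Cfsg.Agent.CharBase Cfsg.Agent.Char
open scoped ComplexConjugate

universe u

section

variable {G : Type u} [Group G] (N : Subgroup G)

/-- `N` is not in the kernel of `χ`. -/
def NT (χ : IrrCharacter G) : Prop := ∃ x ∈ N, (χ : G → ℂ) x ≠ (χ : G → ℂ) 1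

theorem mem_rel {χ : IrrCharacter G} (h : NT N χ) : charDegree (χ : G → ℂ) ∈ relCharDegrees N := ⟨χ, h, rfl⟩

/-- connected degrees. -/
def Conn (a b : ℕ) : Prop := ∃ (ha : a ∈ relCharDegrees N) (hb : b ∈ relCharDegrees N),
  (commonDivisorGraph.induce (relCharDegrees N)).Reachable ⟨a, ha⟩ ⟨b, hb⟩

variable {N}

theorem Conn.symm {a b : ℕ} (h : Conn N a b) : Conn N b a := by
  obtain ⟨ha, hb, h⟩ := h
  exact ⟨hb, ha, h.symm⟩

theorem Conn.trans {a b c : ℕ} (h : Conn N a b) (h' : Conn N b c) : Conn N a c := by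
  obtain ⟨ha, hb, h⟩ := h
  obtain ⟨_, hc, h'⟩ := h'
  exact ⟨ha, hc, h.trans h'⟩

theorem conn_of_dvd {a b d : ℕ} (ha : a ∈ relCharDegrees N) (hb : b ∈ relCharDegrees N) (hd : d ≠ 1)
    (h0 : a ≠ 0) (h1 : d ∣ a) (h2 : d ∣ b) : Conn N a b := by
  refine ⟨ha, hb, ?_⟩
  by_cases hab : a = b
  · subst hab
    exact SimpleGraph.Reachable.refl _
  · apply SimpleGraph.Adj.reachable
    refine ⟨hab, ?_⟩
    change 1 < Nat.gcd a b
    have h3 : d ∣ Nat.gcd a b := Nat.dvd_gcd h1 h2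
    have h4 : Nat.gcd a b ≠ 0 := fun h => h0 (Nat.eq_zero_of_gcd_eq_zero_left h)
    have h5 : Nat.gcd a b ≠ 1 := fun h => hd (Nat.dvd_one.mp (h ▸ h3))
    omega

theorem conn_nt {χ ξ : IrrCharacter G} (hχ : NT N χ) (hξ : NT N ξ) {d : ℕ} (hd : d ≠ 1)
    (h1 : d ∣ charDegree (χ : G → ℂ)) (h2 : d ∣ charDegree (ξ : G → ℂ)) :
    Conn N (charDegree (χ : G → ℂ)) (charDegree (ξ : G → ℂ)) :=
  conn_of_dvd (mem_rel N hχ) (mem_rel N hξ) hd (H79.irr_degree_pos χ).ne' h1 h2

theorem coprime_of_not_conn {χ ξ : IrrCharacter G} (hχ : NT N χ) (hξ : NT N ξ)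
    (h : ¬ Conn N (charDegree (χ : G → ℂ)) (charDegree (ξ : G → ℂ))) {a b : ℕ}
    (h1 : a ∣ charDegree (χ : G → ℂ)) (h2 : b ∣ charDegree (ξ : G → ℂ)) : a.Coprime b := by
  by_contra hc
  exact h (conn_nt hχ hξ (d := Nat.gcd a b) hc ((Nat.gcd_dvd_left a b).trans h1) ((Nat.gcd_dvd_right a b).trans h2))

end

section

variable {G : Type u} [Group G] (N : Subgroup G) [hN : N.Normal] [Fintype G] [Fintype N]

theorem nt_of_ov {χ : IrrCharacter G} {θ : N → ℂ} (hθ : IsIrrCharacter N θ) (hθ1 : θ ≠ fun _ => 1)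
    (h : Ov N (χ : G → ℂ) θ) : NT N χ := by
  by_contra hc
  unfold NT at hc
  push Not at hc
  apply h
  have h1 : (fun n : N => (χ : G → ℂ) n) = ((χ : G → ℂ) 1) • (fun _ : N => (1 : ℂ)) := by
    funext n
    rw [hc n n.2]
    simp
  rw [h1, classInner_smul_left]
  have h2 := classInner_eq_zero_of_irr_ne (Char.isIrrCharacter_one (G := N)) hθ hθ1.symm
  rw [h2, mul_zero]

theorem ne_one_of_nt {χ : IrrCharacter G} {θ : N → ℂ} (hχ : NT N χ) (h : Ov N (χ : G → ℂ) θ) :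
    θ ≠ fun _ => 1 := by
  rintro rfl
  obtain ⟨x, hx, hne⟩ := hχ
  exact hne (H76.ker_of_classInner_one N χ.2 h ⟨x, hx⟩)

theorem lc_ne_one {l : Lin N} (hl : l ≠ 1) : lc l ≠ fun _ => 1 := by
  intro h
  rw [← lc_one] at h
  exact hl (lc_injective h)

theorem dvd_orderOf {r : ℕ} (hr : r.Prime) {l : Lin N} {k : ℕ} (hl : l ^ r ^ k = 1) (hl1 : l ≠ 1) :
    r ∣ orderOf l := by
  have h1 := orderOf_dvd_of_pow_eq_one hl
  obtain ⟨j, hj, hj'⟩ := (Nat.dvd_prime_pow hr).mp h1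
  rw [hj']
  rcases Nat.eq_zero_or_pos j with h0 | h0
  · rw [h0, pow_zero, orderOf_eq_one_iff] at hj'
    exact absurd hj' hl1
  · exact dvd_pow_self r h0.ne'

theorem inertia_inv (l : Lin N) : inertia N (lc l⁻¹) = inertia N (lc l) := by
  ext g
  rw [mem_inertia_lc, mem_inertia_lc]
  have h : cl N g l⁻¹ = (cl N g l)⁻¹ := by
    ext n; simp
  rw [h, inv_inj]

theorem eq_lc_inv_of_mul_eq_one {θ : N → ℂ} {l : Lin N} (h : θ * lc l = fun _ => 1) : θ = lc l⁻¹ := by
  apply mul_lc_injective l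
  change θ * lc l = lc l⁻¹ * lc l
  rw [← lc_mul, inv_mul_cancel, lc_one, h]

/-- If `N` has a nontrivial invariant linear character of prime power order the graph is connected. -/
theorem conn_of_inv (hNG : N ≤ commutator G) {r : ℕ} (hr : r.Prime) {l : Lin N} {k : ℕ}
    (hl : l ^ r ^ k = 1) (hl1 : l ≠ 1) (hinv : ∀ g, cl N g l = l) {χ μ : IrrCharacter G} (hχ : NT N χ)
    (hμ : Ov N (μ : G → ℂ) (lc l)) : Conn N (charDegree (χ : G → ℂ)) (charDegree (μ : G → ℂ)) := by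
  have hinv' : ∀ g, cj N g (lc l) = lc l := fun g => (inv_iff N g l).mpr (hinv g)
  have hrμ : r ∣ charDegree (μ : G → ℂ) := dvd_of_dvd_order N hNG hr hinv' (dvd_orderOf N hr hl hl1) hμ
  have hμn : NT N μ := nt_of_ov N (lc_irr l) (lc_ne_one N hl1) hμ
  by_cases hrχ : r ∣ charDegree (χ : G → ℂ)
  · exact conn_nt hχ hμn hr.ne_one hrχ hrμ
  obtain ⟨θ, hθ, hχθ⟩ := exists_below N χ
  have hθ1 := ne_one_of_nt N hχ hχθ
  obtain ⟨ξ, hξ⟩ := exists_ov N (irr_mul_lc hθ l)
  have hrξ := dvd_of_inv N hNG hr hl hl1 hinv' hθ hχθ hξ hrχ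
  have hne : θ * lc l ≠ fun _ => 1 := by
    intro h
    have h1 := eq_lc_inv_of_mul_eq_one N h
    subst h1
    refine hrχ (dvd_of_dvd_order N hNG hr (fun g => (inv_iff N g _).mpr ?_) (t := l⁻¹) ?_ hχθ)
    · rw [← mem_inertia_lc, inertia_inv, mem_inertia_lc]; exact hinv g
    · rw [orderOf_inv]; exact dvd_orderOf N hr hl hl1
  have hξn : NT N ξ := nt_of_ov N (irr_mul_lc hθ l) hne hξ
  refine Conn.trans ?_ (conn_nt hξn hμn hr.ne_one hrξ hrμ)
  by_cases hθd : charDegree θ = 1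
  swap
  · refine conn_nt hχ hξn hθd (deg_dvd N hθ hχθ) ?_
    have := deg_dvd N (irr_mul_lc hθ l) hξ
    rwa [charDegree_mul_lc] at this
  have hiner : inertia N (θ * lc l) = inertia N θ := by
    ext g
    rw [mem_inertia, mem_inertia, cj_mul_fun, hinv']
    exact (mul_lc_injective l).eq_iff
  by_cases hα : (inertia N θ).index = 1
  swap
  · refine conn_nt hχ hξn hα (index_dvd N hθ hχθ) ?_
    have := index_dvd N (irr_mul_lc hθ l) hξ
    rwa [hiner] at this
  obtain ⟨t, rfl⟩ := exists_lc N hθ hθd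
  rw [Subgroup.index_eq_one] at hα
  have htinv := (inertia_eq_top N).mp hα
  have ht1 : t ≠ 1 := by
    rintro rfl
    exact hθ1 lc_one
  obtain ⟨s, hs, hst⟩ := Nat.exists_prime_and_dvd (n := orderOf t) (fun h => ht1 (orderOf_eq_one_iff.mp h))
  have hsχ := dvd_of_dvd_order N hNG hs htinv hst hχθ
  have hsr : s ≠ r := by
    rintro rfl
    exact hrχ hsχ
  refine conn_nt hχ hξn hs.ne_one hsχ ?_
  rw [← lc_mul] at hξ
  refine dvd_of_dvd_order N hNG hs (fun g => ?_) ?_ hξ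
  · rw [lc_mul, cj_mul_fun, htinv, hinv']
  · have h1 : orderOf t ∣ orderOf (t * l) * r ^ k := by
      apply orderOf_dvd_of_pow_eq_one
      have h2 : (t * l) ^ (orderOf (t * l) * r ^ k) = 1 := by
        rw [pow_mul, pow_orderOf_eq_one, one_pow]
      rw [mul_pow, mul_comm (orderOf (t * l)) (r ^ k), pow_mul l, hl, one_pow, mul_one] at h2
      rw [mul_comm, h2]
    rcases hs.dvd_mul.mp (hst.trans h1) with h | h
    · exact h
    · exact absurd ((Nat.prime_dvd_prime_iff_eq hs hr).mp (hs.dvd_of_dvd_pow h)) hsr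

/-- Powers: a product of linear characters of coprime orders determines its factors. -/
theorem exists_pow_eq {r s : ℕ} (hrs : Nat.Coprime r s) {ψ l : Lin N} (hψ : ψ ^ s = 1) (hl : l ^ r = 1) :
    ∃ m : ℕ, (ψ * l) ^ m = l := by
  obtain ⟨m, hm1, hm2⟩ := Nat.chineseRemainder hrs 1 0
  refine ⟨m, ?_⟩
  have h1 : ψ ^ m = 1 := by
    obtain ⟨c, hc⟩ := (Nat.modEq_zero_iff_dvd).mp hm2
    rw [hc, pow_mul, hψ, one_pow]
  have h2 : l ^ m = l := by
    have h3 : orderOf l ∣ r := orderOf_dvd_of_pow_eq_one hl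
    have h4 : m ≡ 1 [MOD orderOf l] := hm1.of_dvd h3
    have := (pow_eq_pow_iff_modEq (x := l) (n := m) (m := 1)).mpr h4
    rwa [pow_one] at this
  rw [mul_pow, h1, h2, one_mul]

theorem inertia_mul_le {r s : ℕ} (hrs : Nat.Coprime r s) {ψ l : Lin N} (hψ : ψ ^ s = 1) (hl : l ^ r = 1) :
    inertia N (lc (ψ * l)) ≤ inertia N (lc l) ∧ inertia N (lc (ψ * l)) ≤ inertia N (lc ψ) := by
  obtain ⟨m, hm⟩ := exists_pow_eq N hrs hψ hl
  obtain ⟨m', hm'⟩ := exists_pow_eq N hrs.symm hl hψ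
  constructor
  · intro g hg
    rw [mem_inertia_lc] at hg ⊢
    rw [← hm, cl_pow, hg]
  · intro g hg
    rw [mem_inertia_lc] at hg ⊢
    rw [mul_comm] at hm'
    rw [← hm', cl_pow, hg]

theorem conn_of_ndvd (hNG : N ≤ commutator G) {r : ℕ} (hr : r.Prime) {l : Lin N}
    (hl : l ^ r = 1) (hl1 : l ≠ 1) (hlr : ¬ r ∣ (inertia N (lc l)).index) {χ μ : IrrCharacter G} (hχ : NT N χ)
    (hrχ : ¬ r ∣ charDegree (χ : G → ℂ)) (hμ : Ov N (μ : G → ℂ) (lc l)) :
    Conn N (charDegree (χ : G → ℂ)) (charDegree (μ : G → ℂ)) := by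
  have hl' : l ^ r ^ 1 = 1 := by rw [pow_one]; exact hl
  by_cases hinv : ∀ g, cl N g l = l
  · exact conn_of_inv N hNG hr hl' hl1 hinv hχ hμ
  have hβ : (inertia N (lc l)).index ≠ 1 := by
    intro h
    rw [Subgroup.index_eq_one, Subgroup.eq_top_iff'] at h
    exact hinv (fun g => (mem_inertia_lc N g l).mp (h g))
  have hμn : NT N μ := nt_of_ov N (lc_irr l) (lc_ne_one N hl1) hμ
  by_contra hnc
  obtain ⟨θ, hθ, hχθ⟩ := exists_below N χ
  have hθ1 := ne_one_of_nt N hχ hχθ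
  have hβμ := index_dvd N (lc_irr l) hμ
  have hαχ := index_dvd N hθ hχθ
  have hcop := coprime_of_not_conn hχ hμn hnc hαχ hβμ
  obtain ⟨ξ, hξ⟩ := exists_ov N (irr_mul_lc hθ l)
  have hne : θ * lc l ≠ fun _ => 1 := by
    intro h
    have h1 := eq_lc_inv_of_mul_eq_one N h
    rw [h1, inertia_inv] at hcop
    exact hβ ((Nat.coprime_self _).mp hcop)
  have hξn : NT N ξ := nt_of_ov N (irr_mul_lc hθ l) hne hξ
  have hγ := index_dvd N (irr_mul_lc hθ l) hξ
  have hrθ : ¬ r ∣ (inertia N θ).index * charDegree θ := by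
    intro h
    obtain ⟨e, -, hed⟩ := exists_deg N hθ hχθ
    exact hrχ (hed ▸ Dvd.dvd.mul_left h e)
  -- if `ξ`, `μ` are not connected then `l` is invariant
  have key : Conn N (charDegree (ξ : G → ℂ)) (charDegree (μ : G → ℂ)) := by
    by_contra hnc'
    exact hinv (orbit_key N hr hθ hrθ hl' hcop (coprime_of_not_conn hξn hμn hnc' hγ hβμ))
  by_cases hθd : charDegree θ = 1
  swap
  · apply hnc
    refine Conn.trans (conn_nt hχ hξn hθd (deg_dvd N hθ hχθ) ?_) key
    have := deg_dvd N (irr_mul_lc hθ l) hξ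
    rwa [charDegree_mul_lc] at this
  obtain ⟨t, rfl⟩ := exists_lc N hθ hθd
  have ht1 : t ≠ 1 := by
    rintro rfl
    exact hθ1 lc_one
  by_cases hs : ∃ s : ℕ, s.Prime ∧ s ≠ r ∧ s ∣ orderOf t
  · obtain ⟨s, hs, hsr, c, hc⟩ := hs
    have hc0 : 0 < c := Nat.pos_of_ne_zero (by
      rintro rfl
      have := orderOf_pos' N t
      omega)
    have h1 : (t ^ c) ^ s = 1 := by
      rw [← pow_mul, mul_comm, ← hc, pow_orderOf_eq_one]
    have h2 : t ^ c ≠ 1 := by
      intro h3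
      have := orderOf_dvd_of_pow_eq_one h3
      rw [hc] at this
      have := Nat.le_of_dvd hc0 this
      have := hs.two_le
      nlinarith
    have hrs : Nat.Coprime r s := (Nat.coprime_primes hr hs).mpr hsr.symm
    by_cases hpi : ∀ g, cl N g (t ^ c) = t ^ c
    · obtain ⟨η, hη⟩ := exists_ov N (lc_irr (t ^ c))
      have h1' : (t ^ c) ^ s ^ 1 = 1 := by rw [pow_one]; exact h1
      exact hnc ((conn_of_inv N hNG hs h1' h2 hpi hχ hη).trans
        (conn_of_inv N hNG hs h1' h2 hpi hμn hη).symm)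
    · have hα' : (inertia N (lc (t ^ c))).index ≠ 1 := by
        intro h
        rw [Subgroup.index_eq_one, Subgroup.eq_top_iff'] at h
        exact hpi (fun g => (mem_inertia_lc N g _).mp (h g))
      obtain ⟨η, hη⟩ := exists_ov N (lc_irr (t ^ c * l))
      obtain ⟨hle1, hle2⟩ := inertia_mul_le N hrs h1 hl
      have hηd := index_dvd N (lc_irr (t ^ c * l)) hη
      have hne1 : t ^ c * l ≠ 1 := by
        intro h
        obtain ⟨m, hm⟩ := exists_pow_eq N hrs h1 hl
        rw [h, one_pow] at hm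
        exact hl1 hm.symm
      have hηn : NT N η := nt_of_ov N (lc_irr _) (lc_ne_one N hne1) hη
      have hle3 : inertia N (lc t) ≤ inertia N (lc (t ^ c)) := by
        intro g hg
        rw [mem_inertia_lc] at hg ⊢
        rw [cl_pow, hg]
      refine hnc (Conn.trans (conn_nt hχ hηn hα' ((Subgroup.index_dvd_of_le hle3).trans hαχ)
        ((Subgroup.index_dvd_of_le hle2).trans hηd)) ?_)
      exact conn_nt hηn hμn hβ ((Subgroup.index_dvd_of_le hle1).trans hηd) hβμ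
  · push Not at hs
    -- `t` has `r`-power order
    obtain ⟨j, hj⟩ : ∃ j, orderOf t = r ^ j := by
      refine ⟨(orderOf t).primeFactorsList.length, Nat.eq_prime_pow_of_unique_prime_dvd (orderOf_pos' N t).ne' ?_⟩
      intro q hq hqt
      by_contra hqr
      exact hs q hq hqr hqt
    have htj : t ^ r ^ j = 1 := by rw [← hj, pow_orderOf_eq_one]
    have key2 : Conn N (charDegree (χ : G → ℂ)) (charDegree (ξ : G → ℂ)) := by
      by_contra hnc'
      have hc1 := coprime_of_not_conn hχ hξn hnc' hαχ hγ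
      have hti := orbit_key N hr (lc_irr l) (θ := lc l) (l := t) (k := j)
        (by
          have h5 : charDegree (lc l) = 1 := H79.charDegree_eq (by simp)
          rw [h5, mul_one]; exact hlr) htj hcop.symm
        (by rw [mul_comm]; exact hc1.symm)
      exact hrχ (dvd_of_dvd_order N hNG hr (fun g => (inv_iff N g t).mpr (hti g)) (dvd_orderOf N hr htj ht1) hχθ)
    exact hnc (key2.trans key)

end

end Cfsg.Agent.RelDeg
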