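import Cfsg.Agent.RelDeg.Basic

/-!
# Relative character degrees: orbits (helper78)

* `orbit_key`: coprime orbits of `θ`, `l` and `θ l`.
* `exists_lin`: a nontrivial linear character of order `r` with orbit of length prime to `r`.
-/

set_option autoImplicit false
set_option linter.unusedSectionVars false

namespace Cfsg.Agent.RelDeg

open Cfsg Cfsg.Agent.CharBase Cfsg.Agent.Char
open scoped ComplexConjugate

universe u

variable {G : Type u} [Group G] (N : Subgroup G) [hN : N.Normal] [Fintype G] [Fintype N]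

theorem cj_sum (g : G) (s : Finset (N → ℂ)) : cj N g (∑ ψ ∈ s, ψ) = ∑ ψ ∈ s, cj N g ψ := by
  funext n
  simp only [cj_apply, Finset.sum_apply]

theorem sum_orb_inv (g : G) (θ : N → ℂ) : cj N g (∑ ψ ∈ orb N θ, ψ) = ∑ ψ ∈ orb N θ, ψ := by
  rw [cj_sum]
  refine Finset.sum_nbij' (fun ψ => cj N g ψ) (fun ψ => cj N g⁻¹ ψ) ?_ ?_ ?_ ?_ ?_
  · intro ψ hψ
    obtain ⟨h, rfl⟩ := (mem_orb N).mp hψ
    exact (mem_orb N).mpr ⟨h * g, cj_mul N h g θ⟩
  · intro ψ hψ
    obtain ⟨h, rfl⟩ := (mem_orb N).mp hψ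
    exact (mem_orb N).mpr ⟨h * g⁻¹, cj_mul N h g⁻¹ θ⟩
  · intro ψ _
    exact cj_inv_cj N g ψ
  · intro ψ _
    exact cj_cj_inv N g ψ
  · intro ψ _
    rfl

theorem sum_orb_char {θ : N → ℂ} (hθ : IsIrrCharacter N θ) : IsCharacter N (∑ ψ ∈ orb N θ, ψ) := by
  refine isCharacter_sum _ _ (fun ψ hψ => ?_)
  obtain ⟨g, rfl⟩ := (mem_orb N).mp hψ
  exact isCharacter_of_isIrr (isIrrCharacter_cj N g hθ)

theorem sum_orb_deg {θ : N → ℂ} (hθ : IsIrrCharacter N θ) :
    charDegree (∑ ψ ∈ orb N θ, ψ) = (inertia N θ).index * charDegree θ := by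
  apply H79.charDegree_eq
  rw [Finset.sum_apply]
  have h : ∀ ψ ∈ orb N θ, ψ 1 = (charDegree θ : ℂ) := by
    intro ψ hψ
    obtain ⟨g, rfl⟩ := (mem_orb N).mp hψ
    rw [cj_one_apply, H79.char_one_eq (isCharacter_of_isIrr hθ)]
  rw [Finset.sum_congr rfl h, Finset.sum_const, card_orb, nsmul_eq_mul]
  push_cast
  rfl

theorem charDegree_mul_lc {θ : N → ℂ} (l : Lin N) : charDegree (θ * lc l) = charDegree θ := by
  simp [charDegree]

theorem index_inf_of_coprime {A B : Subgroup G} (h : A.index.Coprime B.index) :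
    (A ⊓ B).index = A.index * B.index := by
  have h1 : A.index * B.index ∣ (A ⊓ B).index :=
    h.mul_dvd_of_dvd_of_dvd (Subgroup.index_dvd_of_le inf_le_left) (Subgroup.index_dvd_of_le inf_le_right)
  exact le_antisymm Subgroup.index_inf_le (Nat.le_of_dvd (Nat.pos_of_ne_zero Subgroup.index_ne_zero_of_finite) h1)

theorem orbit_key {r : ℕ} (hr : r.Prime) {θ : N → ℂ} (hθ : IsIrrCharacter N θ)
    (hrθ : ¬ r ∣ (inertia N θ).index * charDegree θ) {l : Lin N} {k : ℕ} (hl : l ^ r ^ k = 1)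
    (h1 : (inertia N θ).index.Coprime (inertia N (lc l)).index)
    (h2 : (inertia N (θ * lc l)).index.Coprime (inertia N (lc l)).index) (g : G) : cl N g l = l := by
  classical
  have hU : inertia N θ ⊓ inertia N (lc l) ≤ inertia N (θ * lc l) := by
    intro x hx
    rw [Subgroup.mem_inf, mem_inertia, mem_inertia] at hx
    rw [mem_inertia, cj_mul_fun, hx.1, hx.2]
  have h3 := Subgroup.index_dvd_of_le hU
  rw [index_inf_of_coprime h1] at h3
  have h4 : (inertia N (θ * lc l)).index ∣ (inertia N θ).index := h2.dvd_of_dvd_mul_right h3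
  have hsub : (orb N θ).image (fun f => f * lc l) ⊆ orb N (θ * lc l) := by
    intro f hf
    rw [Finset.mem_image] at hf
    obtain ⟨φ, hφ, rfl⟩ := hf
    obtain ⟨x, rfl⟩ := (mem_orb N).mp hφ
    obtain ⟨b, hb, hab⟩ := H69.exists_mul_of_coprime_index h1 x⁻¹
    have hab' : x * b ∈ inertia N θ := by
      have := (inertia N θ).inv_mem hab
      simpa using this
    refine (mem_orb N).mpr ⟨b⁻¹, ?_⟩
    have h5 : cj N b⁻¹ (lc l) = lc l := by
      have := (inertia N (lc l)).inv_mem hb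
      exact this
    have h6 : cj N x θ = cj N b⁻¹ θ := by
      have h7 : x = (x * b) * b⁻¹ := by group
      rw [h7, cj_mul N (x * b) b⁻¹, hab']
    rw [cj_mul_fun, h5, h6]
  have hcard : (orb N (θ * lc l)).card ≤ ((orb N θ).image (fun f => f * lc l)).card := by
    rw [Finset.card_image_of_injective _ (mul_lc_injective l), card_orb, card_orb]
    exact Nat.le_of_dvd (Nat.pos_of_ne_zero Subgroup.index_ne_zero_of_finite) h4
  have heq := Finset.eq_of_subset_of_card_le hsub hcard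
  have hsum : ∑ ψ ∈ orb N (θ * lc l), ψ = (∑ ψ ∈ orb N θ, ψ) * lc l := by
    rw [← heq, Finset.sum_image (fun a _ b _ hab => mul_lc_injective l hab), Finset.sum_mul]
  have hinv := sum_orb_inv N g (θ * lc l)
  rw [hsum, cj_mul_fun, sum_orb_inv, cj_lc] at hinv
  have hν : (cl N g l * l⁻¹) ^ r ^ k = 1 := by
    rw [mul_pow, ← cl_pow, inv_pow, hl, cl_one]
    simp
  have hfin := eq_one_of_mul_eq N hr (sum_orb_char N hθ) (by rw [sum_orb_deg N hθ]; exact hrθ) hν (by
    have h5 : lc (cl N g l * l⁻¹) * lc l = lc (cl N g l) := by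
      rw [← lc_mul, inv_mul_cancel_right]
    apply mul_lc_injective l
    change (∑ ψ ∈ orb N θ, ψ) * lc (cl N g l * l⁻¹) * lc l = (∑ ψ ∈ orb N θ, ψ) * lc l
    rw [mul_assoc, h5, hinv])
  exact mul_inv_eq_one.mp hfin

theorem exists_lc {θ : N → ℂ} (hθ : IsIrrCharacter N θ) (h1 : charDegree θ = 1) : ∃ t : Lin N, lc t = θ := by
  have h2 : θ 1 = 1 := by
    rw [H79.char_one_eq (isCharacter_of_isIrr hθ), h1]; simp
  refine ⟨(linHom (isCharacter_of_isIrr hθ) h2).toHomUnits, ?_⟩
  funext n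
  exact MonoidHom.coe_toHomUnits _ n

theorem relIndex_commutator : ⁅N, N⁆.relIndex N = Nat.card (Abelianization N) := by
  rw [Subgroup.relIndex, ← Subgroup.map_subtype_commutator, Subgroup.subgroupOf,
    Subgroup.comap_map_eq_self_of_injective (Subgroup.subtype_injective N)]
  rfl

instance finite_lin : Finite (Lin N) := inferInstanceAs (Finite (N →* ℂˣ))

theorem exists_lin_of_dvd {r : ℕ} (hr : r.Prime) (h : r ∣ ⁅N, N⁆.relIndex N) :
    ∃ l : Lin N, l ≠ 1 ∧ l ^ r = 1 := by
  rw [relIndex_commutator] at h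
  have := Fact.mk hr
  obtain ⟨e⟩ := CommGroup.monoidHom_mulEquiv_of_hasEnoughRootsOfUnity (Abelianization N) ℂ
  rw [← Nat.card_congr e.toEquiv] at h
  obtain ⟨f, hf⟩ := exists_prime_orderOf_dvd_card' r h
  have h1 : f ^ r = 1 := by rw [← hf]; exact pow_orderOf_eq_one f
  have h2 : f ≠ 1 := by
    intro h3
    rw [h3, orderOf_one] at hf
    exact hr.one_lt.ne hf
  refine ⟨MonoidHom.comp f Abelianization.of, ?_, ?_⟩
  · intro h3
    apply h2
    refine MonoidHom.ext fun x => ?_
    obtain ⟨n, rfl⟩ := QuotientGroup.mk_surjective x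
    exact DFunLike.congr_fun (F := Lin N) h3 n
  · refine Lin.ext fun n => ?_
    exact DFunLike.congr_fun h1 (Abelianization.of n)

/-- A nontrivial linear character of order `r` whose orbit has length prime to `r`. -/
theorem exists_lin {r : ℕ} (hr : r.Prime) (h : r ∣ ⁅N, N⁆.relIndex N) :
    ∃ l : Lin N, l ≠ 1 ∧ l ^ r = 1 ∧ ¬ r ∣ (inertia N (lc l)).index := by
  classical
  have := Fact.mk hr
  obtain ⟨l0, hl0, hl0r⟩ := exists_lin_of_dvd N hr h
  let P : Sylow r G := default
  let V := {l : Lin N // l ^ r = 1}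
  have hV : Finite V := Subtype.finite
  let act : MulAction (P : Subgroup G) V :=
    { smul := fun g l => ⟨cl N (g : G)⁻¹ l.1, by rw [← cl_pow, l.2, cl_one]⟩
      one_smul := fun l => by
        apply Subtype.ext
        change cl N ((1 : (P : Subgroup G)) : G)⁻¹ l.1 = l.1
        ext n
        simp [cjEquiv]
      mul_smul := fun g h l => by
        apply Subtype.ext
        change cl N ((g * h : (P : Subgroup G)) : G)⁻¹ l.1 = cl N (g : G)⁻¹ (cl N (h : G)⁻¹ l.1)
        rw [← lc_injective.eq_iff, ← cj_lc, ← cj_lc, ← cj_lc, ← cj_mul]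
        congr 1
        simp }
  have hcard : r ∣ Nat.card V := by
    let K : Subgroup (Lin N) := (powMonoidHom r : Lin N →* Lin N).ker
    have h1 : Nat.card V = Nat.card K := rfl
    rw [h1]
    have h2 : orderOf (⟨l0, hl0r⟩ : K) ∣ Nat.card K := orderOf_dvd_natCard _
    have h3 : orderOf (⟨l0, hl0r⟩ : K) = r := by
      refine orderOf_eq_prime (Subtype.ext hl0r) ?_
      intro h4
      exact hl0 (congrArg Subtype.val h4)
    rwa [h3] at h2
  obtain ⟨b, hb, hb1⟩ := P.isPGroup'.exists_fixed_point_of_prime_dvd_card_of_fixed_point V hcard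
    (a := ⟨1, one_pow r⟩) (fun g => Subtype.ext (cl_one N _))
  refine ⟨b.1, ?_, b.2, ?_⟩
  · intro h4
    exact hb1 (Subtype.ext h4.symm)
  · intro hdvd
    have hle : (P : Subgroup G) ≤ inertia N (lc b.1) := by
      intro g hg
      rw [mem_inertia_lc]
      have h5 := hb (⟨g, hg⟩⁻¹)
      have h6 := congrArg Subtype.val h5
      change cl N (((⟨g, hg⟩⁻¹ : (P : Subgroup G)) : G)⁻¹) b.1 = b.1 at h6
      simpa using h6
    have h7 := Subgroup.index_dvd_of_le hle
    exact P.not_dvd_index (hdvd.trans h7)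

end Cfsg.Agent.RelDeg
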