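import Cfsg.Agent.RelDeg.Final
import Cfsg.Agent.H79.Linearity

/-!
# The degree graph of a solvable group has at most two components (helper78)
-/

set_option autoImplicit false

namespace Cfsg.Agent.RelDeg

open Cfsg Cfsg.Agent.CharBase Cfsg.Agent.Char

universe u

variable {G : Type u} [Group G] [Finite G]

theorem nt_commutator (χ : IrrCharacter G) (h : charDegree (χ : G → ℂ) ≠ 1) : NT (commutator G) χ := by
  by_contra hc
  unfold NT at hc
  push Not at hc
  apply h
  have h1 := H79.linear_of_commutators χ (fun a b => hc _ (by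
    rw [commutator_def]
    exact Subgroup.commutator_mem_commutator (Subgroup.mem_top a) (Subgroup.mem_top b)))
  exact H79.charDegree_eq (n := 1) (by simpa using h1)

theorem reach_of_dvd {a : ℕ} (ha : a ∈ charDegrees G) {p q : ℕ} (hp : p.Prime) (hq : q.Prime)
    (hpa : p ∣ a) (hqa : q ∣ a) (hp' : p ∈ degreePrimes G) (hq' : q ∈ degreePrimes G) :
    ((degreeGraph G).induce (degreePrimes G)).Reachable ⟨p, hp'⟩ ⟨q, hq'⟩ := by
  by_cases h : p = q
  · subst h
    exact SimpleGraph.Reachable.refl _
  · apply SimpleGraph.Adj.reachable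
    exact ⟨h, hp, hq, a, ha, (((Nat.coprime_primes hp hq).mpr h).mul_dvd_of_dvd_of_dvd hpa hqa)⟩

theorem rel_subset (N : Subgroup G) : relCharDegrees N ⊆ charDegrees G := by
  rintro a ⟨χ, -, rfl⟩
  exact ⟨χ, rfl⟩

theorem reach_of_walk (N : Subgroup G) {a b : ↥(relCharDegrees N)}
    (w : (commonDivisorGraph.induce (relCharDegrees N)).Walk a b) :
    ∀ p q : ℕ, p.Prime → q.Prime → p ∣ (a : ℕ) → q ∣ (b : ℕ) → ∀ (hp' : p ∈ degreePrimes G)
      (hq' : q ∈ degreePrimes G), ((degreeGraph G).induce (degreePrimes G)).Reachable ⟨p, hp'⟩ ⟨q, hq'⟩ := by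
  induction w with
  | nil =>
    intro p q hp hq hpa hqa hp' hq'
    exact reach_of_dvd (rel_subset N (Subtype.property _)) hp hq hpa hqa hp' hq'
  | @cons a c b h w ih =>
    intro p q hp hq hpa hqb hp' hq'
    have h1 : 1 < Nat.gcd (a : ℕ) (c : ℕ) := h.2
    obtain ⟨s, hs, hsd⟩ := Nat.exists_prime_and_dvd h1.ne'
    have hsa := hsd.trans (Nat.gcd_dvd_left _ _)
    have hsc := hsd.trans (Nat.gcd_dvd_right _ _)
    have hs' : s ∈ degreePrimes G := ⟨hs, a, rel_subset N a.2, hsa⟩
    exact (reach_of_dvd (rel_subset N a.2) hp hs hpa hsa hp' hs').trans (ih s q hs hq hsc hqb hs' hq')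

theorem degree_graph_le_two [hsol : Group.IsSolvable G] :
    Nat.card ((degreeGraph G).induce (degreePrimes G)).ConnectedComponent ≤ 2 := by
  classical
  by_cases hab : commutator G = ⊥
  · have hem : IsEmpty ↥(degreePrimes G) := by
      refine ⟨fun ⟨p, hp, d, ⟨χ, hχ⟩, hpd⟩ => ?_⟩
      have h1 : charDegree (χ : G → ℂ) ≠ 1 := by
        intro h
        rw [← hχ, h] at hpd
        exact hp.one_lt.ne' (Nat.dvd_one.mp hpd)
      obtain ⟨x, hx, hne⟩ := nt_commutator χ h1
      rw [hab, Subgroup.mem_bot] at hx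
      exact hne (by rw [hx])
    have : IsEmpty ((degreeGraph G).induce (degreePrimes G)).ConnectedComponent :=
      ⟨fun c => by
        induction c using SimpleGraph.ConnectedComponent.ind with
        | _ v => exact hem.false v⟩
    rw [Nat.card_of_isEmpty]
    exact Nat.zero_le _
  have hlt : ⁅commutator G, commutator G⁆ < commutator G := Group.IsSolvable.commutator_lt_of_ne_bot hab
  have h2 := card_le_two (commutator G) hlt le_rfl
  refine le_trans ?_ h2
  have hex : ∀ p : ↥(degreePrimes G), ∃ d : ↥(relCharDegrees (commutator G)), (p : ℕ) ∣ (d : ℕ) := by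
    rintro ⟨p, hp, d, ⟨χ, rfl⟩, hpd⟩
    refine ⟨⟨_, mem_rel _ (nt_commutator χ ?_)⟩, hpd⟩
    intro h
    rw [h] at hpd
    exact hp.one_lt.ne' (Nat.dvd_one.mp hpd)
  choose d hd using hex
  have hfin : Finite ↥(relCharDegrees (commutator G)) := by
    have hf : Finite (IrrCharacter G) := inferInstance
    have h3 : relCharDegrees (commutator G) ⊆ Set.range (fun χ : IrrCharacter G => charDegree (χ : G → ℂ)) := by
      rintro a ⟨χ, -, rfl⟩
      exact ⟨χ, rfl⟩
    exact (Set.finite_range _).subset h3
  have hfin2 : Finite (commonDivisorGraph.induce (relCharDegrees (commutator G))).ConnectedComponent :=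
    Finite.of_surjective (fun v => SimpleGraph.connectedComponentMk _ v) (fun c => by
      induction c using SimpleGraph.ConnectedComponent.ind with
      | _ v => exact ⟨v, rfl⟩)
  let f : ((degreeGraph G).induce (degreePrimes G)).ConnectedComponent →
      (commonDivisorGraph.induce (relCharDegrees (commutator G))).ConnectedComponent :=
    fun c => SimpleGraph.connectedComponentMk _ (d c.out)
  refine Nat.card_le_card_of_injective f ?_
  intro c c' h
  have h4 := SimpleGraph.ConnectedComponent.eq.mp h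
  obtain ⟨w⟩ := h4
  have h5 := reach_of_walk (commutator G) w (c.out : ℕ) (c'.out : ℕ) c.out.2.1 c'.out.2.1 (hd _) (hd _)
    c.out.2 c'.out.2
  have h6 : ∀ c : ((degreeGraph G).induce (degreePrimes G)).ConnectedComponent,
      SimpleGraph.connectedComponentMk _ c.out = c := fun c => Quot.out_eq c
  rw [← h6 c, ← h6 c']
  exact SimpleGraph.ConnectedComponent.eq.mpr h5

end Cfsg.Agent.RelDeg
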